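/-
Linear groups of prime degree: vocabulary, Schur's lemma and simultaneous eigenspaces.
-/
import Mathlib
import Cfsg.Prelude.Def_GeometricClasses

set_option autoImplicit false

namespace CfsgLib.Techniques.AschPrime

open Matrix
open scoped MatrixGroups

variable {ι : Type} [Fintype ι] [DecidableEq ι] {F : Type*} [Field F]

/-- `N` is mapped into itself by conjugation with elements of `H`. -/
def NormalisedBy (H N : Subgroup (GL ι F)) : Prop := ∀ h ∈ H, ∀ x ∈ N, h * x * h⁻¹ ∈ N

/-- The subspace is invariant under every element of the subgroup. -/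
def Inv (H : Subgroup (GL ι F)) (W : Submodule F (ι → F)) : Prop :=
  ∀ h ∈ H, ∀ w ∈ W, (h : Matrix ι ι F) *ᵥ w ∈ W

/-- Irreducibility of a subgroup. -/
abbrev Irr (H : Subgroup (GL ι F)) : Prop := Cfsg.Geo.ActsIrreducibly (Cfsg.Geo.matrixSet H)

/-- Absolute irreducibility of a subgroup. -/
abbrev AbsIrr (H : Subgroup (GL ι F)) : Prop := Cfsg.Geo.ActsAbsolutelyIrreducibly (Cfsg.Geo.matrixSet H)

theorem irr_iff (H : Subgroup (GL ι F)) :
    Irr H ↔ ∀ W : Submodule F (ι → F), Inv H W → W = ⊥ ∨ W = ⊤ := by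
  constructor
  · intro h W hW
    refine h W ?_
    rintro _ ⟨g, hg, rfl⟩ _ ⟨w, hw, rfl⟩
    rw [Matrix.toLin'_apply]
    exact hW g hg w hw
  · intro h W hW
    refine h W fun g hg w hw => ?_
    have := hW _ ⟨g, hg, rfl⟩ (Submodule.mem_map_of_mem hw)
    rwa [Matrix.toLin'_apply] at this

theorem NormalisedBy.inv_mem {H N : Subgroup (GL ι F)} (hN : NormalisedBy H N) {h : GL ι F} (hh : h ∈ H)
    {x : GL ι F} (hx : x ∈ N) : h⁻¹ * x * h ∈ N := by
  have := hN h⁻¹ (H.inv_mem hh) x hx
  rwa [inv_inv] at this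

theorem mulVec_mul (g h : GL ι F) (x : ι → F) :
    ((g * h : GL ι F) : Matrix ι ι F) *ᵥ x = (g : Matrix ι ι F) *ᵥ ((h : Matrix ι ι F) *ᵥ x) := by
  rw [Units.val_mul, mulVec_mulVec]

theorem mulVec_inj (g : GL ι F) {x y : ι → F} (h : (g : Matrix ι ι F) *ᵥ x = (g : Matrix ι ι F) *ᵥ y) :
    x = y := by
  have := congrArg (((g⁻¹ : GL ι F) : Matrix ι ι F) *ᵥ ·) h
  simpa [mulVec_mulVec] using this

theorem toLin'_injective_of_gl (g : GL ι F) : Function.Injective (Matrix.toLin' (g : Matrix ι ι F)) :=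
  fun _ _ h => mulVec_inj g (by simpa [Matrix.toLin'_apply] using h)

theorem finrank_map_gl (g : GL ι F) (W : Submodule F (ι → F)) :
    Module.finrank F (W.map (Matrix.toLin' (g : Matrix ι ι F))) = Module.finrank F W :=
  (LinearEquiv.finrank_eq (Submodule.equivMapOfInjective _ (toLin'_injective_of_gl g) W)).symm

/-- Scalars commute with everything. -/
theorem scalars_comm {c : GL ι F} (hc : c ∈ Cfsg.Geo.scalars ι F) (g : GL ι F) : c * g = g * c := by
  obtain ⟨a, ha⟩ := (Cfsg.Geo.mem_scalars_iff c).mp hc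
  refine Units.ext ?_
  rw [Units.val_mul, Units.val_mul, ha, Matrix.smul_mul, Matrix.one_mul, Matrix.mul_smul, Matrix.mul_one]

theorem mem_scalars_of_eq_smul {g : GL ι F} {c : F} [Nonempty ι] (h : (g : Matrix ι ι F) = c • 1) :
    g ∈ Cfsg.Geo.scalars ι F := by
  refine (Cfsg.Geo.mem_scalars_iff g).mpr ⟨Units.mk0 c fun h0 => ?_, h⟩
  have h1 : ((g * g⁻¹ : GL ι F) : Matrix ι ι F) = 1 := by rw [mul_inv_cancel, Units.val_one]
  rw [Units.val_mul, h, h0, zero_smul, zero_mul] at h1
  exact zero_ne_one h1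

/-- A matrix is a scalar when it commutes with an absolutely irreducible subgroup. -/
theorem AbsIrr.scalar {S : Subgroup (GL ι F)} (hS : AbsIrr S) {M : Matrix ι ι F}
    (hM : ∀ s ∈ S, M * (s : Matrix ι ι F) = (s : Matrix ι ι F) * M) : ∃ c : F, M = c • 1 :=
  hS.2 M (by rintro _ ⟨s, hs, rfl⟩; exact hM s hs)

theorem AbsIrr.mem_scalars [Nonempty ι] {S : Subgroup (GL ι F)} (hS : AbsIrr S) {g : GL ι F}
    (hg : ∀ s ∈ S, g * s = s * g) : g ∈ Cfsg.Geo.scalars ι F := by
  obtain ⟨c, hc⟩ := hS.scalar (M := (g : Matrix ι ι F)) fun s hs => by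
    rw [← Units.val_mul, ← Units.val_mul, hg s hs]
  exact mem_scalars_of_eq_smul hc

/-- Schur's lemma: a non-zero matrix commuting with an irreducible subgroup is injective. -/
theorem Irr.injective {H : Subgroup (GL ι F)} (hH : Irr H) {M : Matrix ι ι F} (hM0 : M ≠ 0)
    (hM : ∀ h ∈ H, M * (h : Matrix ι ι F) = (h : Matrix ι ι F) * M) :
    ∀ v, M *ᵥ v = 0 → v = 0 := by
  have hker : Inv H (LinearMap.ker (Matrix.toLin' M)) := by
    intro h hh w hw
    rw [LinearMap.mem_ker, Matrix.toLin'_apply] at hw ⊢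
    rw [mulVec_mulVec, hM h hh, ← mulVec_mulVec, hw, mulVec_zero]
  rcases (irr_iff H).mp hH _ hker with h | h
  · intro v hv
    have : v ∈ LinearMap.ker (Matrix.toLin' M) := by rwa [LinearMap.mem_ker, Matrix.toLin'_apply]
    rwa [h, Submodule.mem_bot] at this
  · refine absurd ?_ hM0
    have h0 : Matrix.toLin' M = 0 := LinearMap.ker_eq_top.mp h
    exact Matrix.toLin'.map_eq_zero_iff.mp h0

/-- A family of operators: the vectors that are common eigenvectors for the eigenvalue function `χ`. -/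
def eigen {R J : Type*} [CommRing R] {M : Type*} [AddCommGroup M] [Module R M] (T : J → M →ₗ[R] M)
    (χ : J → R) : Submodule R M :=
  ⨅ j, LinearMap.ker (T j - χ j • LinearMap.id)

theorem mem_eigen {R J : Type*} [CommRing R] {M : Type*} [AddCommGroup M] [Module R M] {T : J → M →ₗ[R] M}
    {χ : J → R} {v : M} : v ∈ eigen T χ ↔ ∀ j, T j v = χ j • v := by
  simp [eigen, sub_eq_zero]

/-- Common eigenspaces for distinct eigenvalue functions are independent. -/
theorem eigen_indep {K J : Type*} [Field K] {M : Type*} [AddCommGroup M] [Module K M]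
    (T : J → M →ₗ[K] M) : iSupIndep (eigen T) := by
  classical
  rw [iSupIndep_iff_finsetSum_eq_zero_imp_eq_zero]
  intro s
  induction s using Finset.induction with
  | empty => intro v _ _ i hi; exact absurd hi (Finset.notMem_empty i)
  | @insert a s ha ih =>
    intro v hv hsum
    rw [Finset.sum_insert ha] at hsum
    have hs0 : ∀ b ∈ s, v b = 0 := by
      intro b hb
      obtain ⟨j, hj⟩ := Function.ne_iff.mp (show b ≠ a by rintro rfl; exact ha hb)
      have h1 := congrArg (T j) hsum
      rw [map_add, map_sum, map_zero] at h1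
      have h2 : ∑ i ∈ s, (i j - a j) • v i = 0 := by
        have e1 : ∀ i ∈ s, T j (v i) = i j • v i := fun i hi =>
          mem_eigen.mp (hv i (Finset.mem_insert_of_mem hi)) j
        rw [mem_eigen.mp (hv a (Finset.mem_insert_self a s)) j, Finset.sum_congr rfl e1] at h1
        have h3 : a j • (v a + ∑ i ∈ s, v i) = 0 := by rw [hsum, smul_zero]
        calc ∑ i ∈ s, (i j - a j) • v i
            = ∑ i ∈ s, i j • v i - ∑ i ∈ s, a j • v i := by simp [sub_smul, Finset.sum_sub_distrib]
          _ = (a j • v a + ∑ i ∈ s, i j • v i) - a j • (v a + ∑ i ∈ s, v i) := by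
              rw [smul_add, Finset.smul_sum]; abel
          _ = 0 := by rw [h1, h3, sub_zero]
      have := ih (fun i => (i j - a j) • v i)
        (fun i hi => Submodule.smul_mem _ _ (hv i (Finset.mem_insert_of_mem hi))) h2 b hb
      exact (smul_eq_zero.mp this).resolve_left (sub_ne_zero.mpr hj)
    intro i hi
    rcases Finset.mem_insert.mp hi with rfl | hi
    · rwa [Finset.sum_eq_zero hs0, add_zero] at hsum
    · exact hs0 i hi

end CfsgLib.Techniques.AschPrime
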