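/-
Irreducible but not absolutely irreducible subgroups in prime degree: the centralising field.
-/
import Cfsg.Agent.Lib.Techniques.AschPrime.Basic

set_option autoImplicit false

namespace CfsgLib.Techniques.AschPrime

open Matrix
open scoped MatrixGroups

variable {ι : Type} [Fintype ι] [DecidableEq ι] {F : Type*} [Field F] [Finite F]

/-- The centraliser algebra of a subgroup. -/
def cent (H : Subgroup (GL ι F)) : Subalgebra F (Matrix ι ι F) :=
  Subalgebra.centralizer F (Cfsg.Geo.matrixSet H)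

omit [Finite F] in
theorem mem_cent {H : Subgroup (GL ι F)} {M : Matrix ι ι F} :
    M ∈ cent H ↔ ∀ h ∈ H, (h : Matrix ι ι F) * M = M * (h : Matrix ι ι F) := by
  rw [cent, Subalgebra.mem_centralizer_iff]
  constructor
  · intro hM h hh; exact hM _ ⟨h, hh, rfl⟩
  · rintro hM _ ⟨h, hh, rfl⟩; exact hM h hh

/-- In prime degree the centraliser of an irreducible, not absolutely irreducible subgroup is a field of that
degree. -/
theorem isFieldSubalgebra_cent (hn : (Fintype.card ι).Prime) {H : Subgroup (GL ι F)} (hH : Irr H)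
    (hna : ¬ AbsIrr H) : Cfsg.Geo.IsFieldSubalgebra (Fintype.card ι) (cent H) := by
  classical
  haveI : Nonempty ι := Fintype.card_pos_iff.mp hn.pos
  haveI : Finite (Matrix ι ι F) := Module.finite_of_finite F
  haveI : Finite (cent H) := Subtype.finite
  haveI : Nontrivial (cent H) := ⟨⟨0, 1, fun h => zero_ne_one (α := Matrix ι ι F) (congrArg Subtype.val h)⟩⟩
  haveI : NoZeroDivisors (cent H) := ⟨fun {a b} hab => by
    by_contra hcon
    rw [not_or] at hcon
    apply hcon.2
    apply Subtype.ext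
    refine Matrix.ext_of_mulVec_single fun i => ?_
    change (b : Matrix ι ι F) *ᵥ _ = (0 : Matrix ι ι F) *ᵥ _
    have h0 : (a : Matrix ι ι F) *ᵥ ((b : Matrix ι ι F) *ᵥ Pi.single i 1) = 0 := by
      rw [mulVec_mulVec]
      have : (a : Matrix ι ι F) * (b : Matrix ι ι F) = 0 := congrArg Subtype.val hab
      rw [this, zero_mulVec]
    have := hH.injective (fun h => hcon.1 (Subtype.ext h)) (fun h hh => (mem_cent.mp a.2 h hh).symm) _ h0
    rw [this, zero_mulVec]⟩
  haveI : IsDomain (cent H) := NoZeroDivisors.to_isDomain _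
  have hfield : IsField (cent H) := Finite.isDomain_to_isField _
  refine ⟨fun x hx y hy => congrArg Subtype.val (hfield.mul_comm ⟨x, hx⟩ ⟨y, hy⟩), fun x hx hx0 => ?_, ?_⟩
  · obtain ⟨y, hy⟩ := hfield.mul_inv_cancel (a := (⟨x, hx⟩ : cent H)) fun h => hx0 (congrArg Subtype.val h)
    exact ⟨y.1, y.2, congrArg Subtype.val hy⟩
  let act : cent H →+* Module.End F (ι → F) :=
    (Matrix.toLinAlgEquiv' : Matrix ι ι F ≃ₐ[F] Module.End F (ι → F)).toRingEquiv.toRingHom.comp
      (cent H).val.toRingHom
  letI : Module (cent H) (ι → F) := Module.compHom _ act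
  have hsmul : ∀ (k : cent H) (v : ι → F), k • v = (k : Matrix ι ι F) *ᵥ v := fun k v => by
    change act k v = _
    simp [act, Matrix.toLinAlgEquiv'_apply]
  have ht : IsScalarTower F (cent H) (ι → F) := ⟨fun c k v => by
    rw [hsmul, hsmul]
    exact Matrix.smul_mulVec c (k : Matrix ι ι F) v⟩
  haveI : Module.Free (cent H) (ι → F) := by
    letI := hfield.toField
    exact Module.Free.of_divisionRing _ _
  haveI : StrongRankCondition (cent H) := by
    letI := hfield.toField
    exact inferInstance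
  have hmul := @Module.finrank_mul_finrank F (cent H) (ι → F) _ _ _ _ _ _ ht _ _ _ _
  rw [Module.finrank_pi] at hmul
  rcases (Nat.dvd_prime hn).mp ⟨_, hmul.symm⟩ with h1 | h1
  · exfalso
    refine hna ⟨hH, fun M hM => ?_⟩
    have hM' : M ∈ cent H := mem_cent.mpr fun h hh => (hM _ ⟨h, hh, rfl⟩).symm
    obtain ⟨c, hc⟩ := (finrank_eq_one_iff_of_nonzero' (1 : cent H) one_ne_zero).mp h1 ⟨M, hM'⟩
    exact ⟨c, by simpa using (congrArg Subtype.val hc).symm⟩
  · exact h1

/-- A field subalgebra of full degree is its own centraliser. -/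
theorem mem_of_commute_field {K : Subalgebra F (Matrix ι ι F)}
    (hK : Cfsg.Geo.IsFieldSubalgebra (Fintype.card ι) K) [Nonempty ι] {x : Matrix ι ι F}
    (hx : ∀ k ∈ K, x * k = k * x) : x ∈ K := by
  classical
  let v : ι → F := Pi.single (Classical.arbitrary ι) 1
  have hv : v ≠ 0 := by simp [v]
  let ev : K →ₗ[F] (ι → F) :=
    { toFun := fun k => (k : Matrix ι ι F) *ᵥ v
      map_add' := fun a b => by simp [add_mulVec]
      map_smul' := fun c a => by simp [Matrix.smul_mulVec] }
  have hinj : Function.Injective ev := by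
    rw [← LinearMap.ker_eq_bot, LinearMap.ker_eq_bot']
    intro k hk
    by_contra hk0
    obtain ⟨y, hy, hky⟩ := hK.inv k k.2 fun h => hk0 (Subtype.ext h)
    apply hv
    have : (y * (k : Matrix ι ι F)) *ᵥ v = 0 := by
      rw [← mulVec_mulVec]
      change y *ᵥ ev k = 0
      rw [hk, mulVec_zero]
    rwa [← hK.comm _ k.2 y hy, hky, one_mulVec] at this
  have hsurj : Function.Surjective ev :=
    (LinearMap.injective_iff_surjective_of_finrank_eq_finrank
      (by rw [hK.finrank_eq, Module.finrank_pi])).mp hinj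
  obtain ⟨k, hk⟩ := hsurj (x *ᵥ v)
  suffices x = (k : Matrix ι ι F) by rw [this]; exact k.2
  refine Matrix.ext_of_mulVec_single fun i => ?_
  obtain ⟨l, hl⟩ := hsurj (Pi.single i 1)
  rw [← hl]
  change x *ᵥ ((l : Matrix ι ι F) *ᵥ v) = (k : Matrix ι ι F) *ᵥ ((l : Matrix ι ι F) *ᵥ v)
  rw [mulVec_mulVec, hx _ l.2, mulVec_mulVec, hK.comm _ k.2 _ l.2, ← mulVec_mulVec, ← mulVec_mulVec]
  exact congrArg _ hk.symm

/-- In prime degree an irreducible subgroup that is not absolutely irreducible is commutative. -/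
theorem comm_of_not_absIrr (hn : (Fintype.card ι).Prime) {H : Subgroup (GL ι F)} (hH : Irr H)
    (hna : ¬ AbsIrr H) : ∀ a ∈ H, ∀ b ∈ H, a * b = b * a := by
  haveI : Nonempty ι := Fintype.card_pos_iff.mp hn.pos
  have hK := isFieldSubalgebra_cent hn hH hna
  have hmem : ∀ a ∈ H, (a : Matrix ι ι F) ∈ cent H := fun a ha =>
    mem_of_commute_field hK fun k hk => mem_cent.mp hk a ha
  intro a ha b hb
  exact Units.ext (by rw [Units.val_mul, Units.val_mul]; exact hK.comm _ (hmem a ha) _ (hmem b hb))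

omit [Finite F] in
/-- The centraliser algebra of a normalised subgroup is normalised. -/
theorem le_subalgebraNormalizer_cent {H N : Subgroup (GL ι F)} (hN : NormalisedBy H N) :
    H ≤ Cfsg.Geo.subalgebraNormalizer (cent N) := by
  have key : ∀ h ∈ H, ∀ k ∈ cent N,
      (h : Matrix ι ι F) * k * ((h⁻¹ : GL ι F) : Matrix ι ι F) ∈ cent N := by
    intro h hh k hk
    rw [mem_cent]
    intro x hx
    have h1 := mem_cent.mp hk _ (hN.inv_mem hh hx)
    rw [Units.val_mul, Units.val_mul] at h1
    calc (x : Matrix ι ι F) * ((h : Matrix ι ι F) * k * ((h⁻¹ : GL ι F) : Matrix ι ι F))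
        = (h : Matrix ι ι F) * ((((h⁻¹ : GL ι F) : Matrix ι ι F) * (x : Matrix ι ι F) * (h : Matrix ι ι F)) * k) *
            ((h⁻¹ : GL ι F) : Matrix ι ι F) := by
          simp only [← mul_assoc, ← Units.val_mul, mul_inv_cancel, Units.val_one, one_mul]
      _ = (h : Matrix ι ι F) * (k * (((h⁻¹ : GL ι F) : Matrix ι ι F) * (x : Matrix ι ι F) * (h : Matrix ι ι F))) *
            ((h⁻¹ : GL ι F) : Matrix ι ι F) := by rw [h1]
      _ = (h : Matrix ι ι F) * k * ((h⁻¹ : GL ι F) : Matrix ι ι F) * (x : Matrix ι ι F) := by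
          simp only [mul_assoc, ← Units.val_mul, mul_inv_cancel, mul_one, Units.val_one]
  intro h hh k
  refine ⟨key h hh k, fun h' => ?_⟩
  have := key h⁻¹ (H.inv_mem hh) _ h'
  rw [inv_inv] at this
  simpa [← mul_assoc] using this

end CfsgLib.Techniques.AschPrime
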