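/-
Clifford theory in prime degree.
-/
import Cfsg.Agent.Lib.Techniques.AschPrime.Field

set_option autoImplicit false

namespace CfsgLib.Techniques.AschPrime

open Matrix
open scoped MatrixGroups

variable {ι : Type} [Fintype ι] [DecidableEq ι] {F : Type*} [Field F]

theorem finrank_iSup_eq_sum {κ : Type*} [Fintype κ] (D : κ → Submodule F (ι → F)) (hind : iSupIndep D)
    (htop : iSup D = ⊤) : ∑ k, Module.finrank F (D k) = Fintype.card ι := by
  classical
  have h : DirectSum.IsInternal D :=
    (DirectSum.isInternal_submodule_iff_iSupIndep_and_iSup_eq_top D).mpr ⟨hind, htop⟩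
  rw [← Module.finrank_directSum, (LinearEquiv.ofBijective (DirectSum.coeLinearMap D) h).finrank_eq,
    Module.finrank_pi]

/-- A normalised subgroup of an irreducible group in prime degree is scalar, irreducible, or diagonal with respect
to a decomposition into lines permuted by the group. -/
theorem clifford [Finite F] (hn : (Fintype.card ι).Prime) {H N : Subgroup (GL ι F)} (hH : Irr H)
    (hN : NormalisedBy H N) :
    N ≤ Cfsg.Geo.scalars ι F ∨ Irr N ∨
    ∃ D : Fin (Fintype.card ι) → Submodule F (ι → F), Cfsg.Geo.IsMDecomposition 1 D ∧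
      H ≤ Cfsg.Geo.decompositionStabilizer D ∧
      (∀ x ∈ N, ∀ y ∈ N, x * y = y * x) ∧
      ∃ χ : Fin (Fintype.card ι) → N → F, ∀ i (x : N), ∀ v ∈ D i, ((x : GL ι F) : Matrix ι ι F) *ᵥ v = χ i x • v := by
  classical
  haveI : Nonempty ι := Fintype.card_pos_iff.mp hn.pos
  haveI : Finite (Matrix ι ι F) := Module.finite_of_finite F
  haveI : Finite (GL ι F) := Finite.of_injective _ Units.val_injective
  by_cases hirr : Irr N
  · exact Or.inr (Or.inl hirr)
  -- a minimal invariant subspace
  have hex : ∃ d, ∃ W : Submodule F (ι → F), Module.finrank F W = d ∧ W ≠ ⊥ ∧ Inv N W :=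
    ⟨_, ⊤, rfl, top_ne_bot, fun _ _ _ _ => Submodule.mem_top⟩
  obtain ⟨W, hd, hW0, hWinv⟩ := Nat.find_spec hex
  set d := Nat.find hex with hddef
  have hmin : ∀ U : Submodule F (ι → F), U ≠ ⊥ → Inv N U → d ≤ Module.finrank F U := fun U h1 h2 =>
    Nat.find_min' hex ⟨U, rfl, h1, h2⟩
  have hdlt : d < Fintype.card ι := by
    rw [irr_iff] at hirr
    push Not at hirr
    obtain ⟨U, hU, hU0, hU1⟩ := hirr
    refine lt_of_le_of_lt (hmin U hU0 hU) ?_
    have := Submodule.finrank_lt hU1
    rwa [Module.finrank_pi] at this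
  -- the translates
  let img : H → Submodule F (ι → F) := fun h => W.map (Matrix.toLin' ((h : GL ι F) : Matrix ι ι F))
  have himg : ∀ h : H, Inv N (img h) := by
    rintro ⟨h, hh⟩ x hx _ ⟨w, hw, rfl⟩
    refine ⟨((h⁻¹ * x * h : GL ι F) : Matrix ι ι F) *ᵥ w, hWinv _ (hN.inv_mem hh hx) w hw, ?_⟩
    rw [Matrix.toLin'_apply, Matrix.toLin'_apply, mulVec_mulVec, mulVec_mulVec, ← Units.val_mul, ← Units.val_mul,
      mul_assoc h⁻¹, mul_inv_cancel_left]
  have htop : iSup img = ⊤ := by
    have hinv : Inv H (iSup img) := by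
      intro g hg v hv
      have hle : (iSup img).map (Matrix.toLin' (g : Matrix ι ι F)) ≤ iSup img := by
        rw [Submodule.map_iSup]
        refine iSup_le fun h => le_iSup_of_le (⟨g, hg⟩ * h) ?_
        change (W.map _).map _ ≤ W.map _
        rw [← Submodule.map_comp, ← Matrix.toLin'_mul, ← Units.val_mul]
        exact le_rfl
      have := hle (Submodule.mem_map_of_mem hv)
      rwa [Matrix.toLin'_apply] at this
    refine ((irr_iff H).mp hH _ hinv).resolve_left fun h0 => hW0 ?_
    rw [eq_bot_iff, ← h0]
    refine le_trans ?_ (le_iSup img 1)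
    intro w hw
    exact ⟨w, hw, by simp⟩
  -- a maximal independent set of translates
  have hexS : ∃ S : Finset H, S.SupIndep img ∧ ∀ T : Finset H, T.SupIndep img → T.card ≤ S.card := by
    haveI : Fintype H := Fintype.ofFinite _
    have hne : ((Finset.univ : Finset (Finset H)).filter fun S => S.SupIndep img).Nonempty :=
      ⟨∅, by simp [Finset.supIndep_empty]⟩
    obtain ⟨S, hS, hmax⟩ := Finset.exists_max_image _ Finset.card hne
    exact ⟨S, (Finset.mem_filter.mp hS).2, fun T hT => hmax T (by simp [hT])⟩
  obtain ⟨S, hS, hSmax⟩ := hexS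
  have hSle : ∀ h : H, img h ≤ S.sup img := by
    intro h
    by_contra hle
    have hdis : Disjoint (img h) (S.sup img) := by
      rw [disjoint_iff]
      by_contra hne
      have hinvS : Inv N (img h ⊓ S.sup img) := by
        intro x hx v hv
        refine ⟨himg h x hx v hv.1, ?_⟩
        have hle' : (S.sup img).map (Matrix.toLin' (x : Matrix ι ι F)) ≤ S.sup img := by
          rw [Finset.sup_eq_iSup, Submodule.map_iSup]
          refine iSup_le fun a => ?_
          rw [Submodule.map_iSup]
          refine iSup_le fun ha => le_iSup_of_le a (le_iSup_of_le ha ?_)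
          rintro _ ⟨w, hw, rfl⟩
          rw [Matrix.toLin'_apply]
          exact himg a x hx w hw
        have := hle' (Submodule.mem_map_of_mem hv.2)
        rwa [Matrix.toLin'_apply] at this
      have h1 := hmin _ hne hinvS
      have h2 : Module.finrank F (img h) = d := (finrank_map_gl _ _).trans hd
      have h3 := Submodule.eq_of_le_of_finrank_le (inf_le_left : img h ⊓ S.sup img ≤ img h) (by rw [h2]; exact h1)
      exact hle (inf_eq_left.mp h3)
    have hnS : h ∉ S := fun hm => hle (Finset.le_sup (f := img) hm)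
    have := hSmax _ (hS.insert hdis)
    rw [Finset.card_insert_of_notMem hnS] at this
    omega
  let T : S → Submodule F (ι → F) := fun a => img a.1
  have hTind : iSupIndep T := hS.independent
  have hTtop : iSup T = ⊤ := by
    rw [eq_top_iff, ← htop]
    refine iSup_le fun h => le_trans (hSle h) ?_
    exact Finset.sup_le fun a ha => le_iSup T ⟨a, ha⟩
  have hsum := finrank_iSup_eq_sum T hTind hTtop
  rw [Finset.sum_congr rfl (fun a _ => (finrank_map_gl _ _).trans hd), Finset.sum_const, Finset.card_univ,
    smul_eq_mul] at hsum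
  have hd1 : d = 1 := by
    rcases (Nat.dvd_prime hn).mp ⟨Fintype.card S, by rw [← hsum, mul_comm]⟩ with h | h
    · exact h
    · exact absurd h hdlt.ne
  -- every translate is a common eigenline
  let ev : N → (ι → F) →ₗ[F] (ι → F) := fun x => Matrix.toLin' ((x : GL ι F) : Matrix ι ι F)
  have hchar : ∀ h : H, ∃ χ : N → F, img h ≤ eigen ev χ := by
    intro h
    have h1 : Module.finrank F (img h) = 1 := ((finrank_map_gl _ _).trans hd).trans hd1
    obtain ⟨v, hv0, hv⟩ := finrank_eq_one_iff'.mp h1
    have : ∀ x : N, ∃ c : F, ((x : GL ι F) : Matrix ι ι F) *ᵥ (v : ι → F) = c • (v : ι → F) := fun x => by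
      obtain ⟨c, hc⟩ := hv ⟨_, himg h x x.2 v v.2⟩
      exact ⟨c, (congrArg Subtype.val hc).symm⟩
    choose χ hχ using this
    refine ⟨χ, fun w hw => mem_eigen.mpr fun x => ?_⟩
    obtain ⟨c, hc⟩ := hv ⟨w, hw⟩
    rw [show w = c • (v : ι → F) from (congrArg Subtype.val hc).symm]
    simp only [ev, Matrix.toLin'_apply, mulVec_smul, hχ, smul_comm (χ x) c]
  choose χ hχ using hchar
  let X : Finset (N → F) := S.image χ
  let E : X → Submodule F (ι → F) := fun a => eigen ev a.1
  have hEind : iSupIndep E := (eigen_indep ev).comp Subtype.val_injective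
  have hEtop : iSup E = ⊤ := by
    rw [eq_top_iff, ← hTtop]
    refine iSup_le fun a => le_trans (hχ a.1) ?_
    exact le_iSup E ⟨χ a.1, Finset.mem_image_of_mem χ a.2⟩
  have hcomm : ∀ x ∈ N, ∀ y ∈ N, x * y = y * x := by
    intro x hx y hy
    refine Units.ext (Matrix.toLin'.injective (LinearMap.ext fun v => ?_))
    have hv : v ∈ iSup E := by rw [hEtop]; exact Submodule.mem_top
    induction hv using Submodule.iSup_induction' with
    | mem a w hw =>
      have e1 := mem_eigen.mp hw ⟨x, hx⟩
      have e2 := mem_eigen.mp hw ⟨y, hy⟩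
      simp only [ev, Matrix.toLin'_apply] at e1 e2
      simp only [Matrix.toLin'_apply, mulVec_mul, e1, e2, mulVec_smul, smul_smul, mul_comm]
    | zero => simp
    | add a b _ _ ha hb => simp only [map_add, ha, hb]
  -- the group permutes the eigenspaces
  have hne : ∀ a : X, E a ≠ ⊥ := by
    intro a h0
    obtain ⟨b, hb, hab⟩ := Finset.mem_image.mp a.2
    have h1 : img b ≤ (⊥ : Submodule F (ι → F)) := by
      rw [← h0]; exact (hχ b).trans_eq (by rw [hab])
    have h2 := Submodule.finrank_mono h1
    rw [finrank_bot] at h2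
    have h3 : Module.finrank F (img b) = d := (finrank_map_gl _ _).trans hd
    omega
  have hperm : ∀ (h : H) (a : X), ∃ b : X, (E a).map (Matrix.toLin' ((h : GL ι F) : Matrix ι ι F)) = E b := by
    rintro ⟨h, hh⟩ a
    let ψ : N → F := fun x => a.1 ⟨h⁻¹ * x.1 * h, hN.inv_mem hh x.2⟩
    have e1 : (E a).map (Matrix.toLin' (h : Matrix ι ι F)) = eigen ev ψ := by
      ext w
      constructor
      · rintro ⟨v, hv, rfl⟩
        refine mem_eigen.mpr fun x => ?_
        have := mem_eigen.mp hv ⟨h⁻¹ * x.1 * h, hN.inv_mem hh x.2⟩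
        simp only [ev, Matrix.toLin'_apply] at this ⊢
        rw [← mulVec_smul, ← this, ← mulVec_mul, ← mulVec_mul, mul_assoc h⁻¹, mul_inv_cancel_left]
      · intro hw
        refine ⟨((h⁻¹ : GL ι F) : Matrix ι ι F) *ᵥ w, mem_eigen.mpr fun x => ?_, ?_⟩
        · have hx : h * x.1 * h⁻¹ ∈ N := hN h hh x.1 x.2
          have := mem_eigen.mp hw ⟨_, hx⟩
          have hψ : ψ ⟨_, hx⟩ = a.1 x := by
            simp only [ψ]
            exact congrArg a.1 (Subtype.ext (show h⁻¹ * (h * x.1 * h⁻¹) * h = x.1 by group))
          rw [hψ] at this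
          simp only [ev, Matrix.toLin'_apply] at this ⊢
          rw [← mulVec_smul, ← this, ← mulVec_mul, ← mulVec_mul]
          congr 2
          group
        · rw [Matrix.toLin'_apply, ← mulVec_mul, mul_inv_cancel, Units.val_one, one_mulVec]
    suffices hmem : ψ ∈ X from ⟨⟨ψ, hmem⟩, e1⟩
    by_contra hmem
    have h0 : eigen ev ψ ≠ ⊥ := by
      rw [← e1]
      intro h0
      apply hne a
      have h2 := congrArg (fun U : Submodule F (ι → F) => Module.finrank F U) h0
      rwa [finrank_map_gl, finrank_bot, Submodule.finrank_eq_zero] at h2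
    apply h0
    refine (eigen_indep ev ψ).eq_bot_of_le ?_
    refine le_trans le_top (hEtop.symm.le.trans ?_)
    exact iSup_le fun b => le_iSup₂_of_le b.1 (fun e => hmem (by rw [← e]; exact b.2)) le_rfl
  have hXne : Nonempty X := by
    rcases isEmpty_or_nonempty X with hX | hX
    · rw [iSup_of_empty] at hEtop
      exact absurd hEtop bot_ne_top
    · exact hX
  have hsame : ∀ a b : X, Module.finrank F (E a) = Module.finrank F (E b) := by
    intro a b
    let U : Submodule F (ι → F) :=
      ⨆ h : H, (E a).map (Matrix.toLin' ((h : GL ι F) : Matrix ι ι F))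
    have hinv : Inv H U := by
      intro g hg v hv
      have hle : U.map (Matrix.toLin' (g : Matrix ι ι F)) ≤ U := by
        rw [Submodule.map_iSup]
        refine iSup_le fun h => le_iSup_of_le (⟨g, hg⟩ * h) ?_
        rw [← Submodule.map_comp, ← Matrix.toLin'_mul, ← Units.val_mul]
        exact le_rfl
      have := hle (Submodule.mem_map_of_mem hv)
      rwa [Matrix.toLin'_apply] at this
    have hUtop : U = ⊤ := ((irr_iff H).mp hH _ hinv).resolve_left fun h0 => hne a (by
      rw [eq_bot_iff, ← h0]
      refine le_trans ?_ (le_iSup _ 1)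
      intro w hw
      exact ⟨w, hw, by simp⟩)
    by_contra hcon
    apply hne b
    refine (hEind b).eq_bot_of_le ?_
    refine le_trans le_top (hUtop.symm.le.trans (iSup_le fun h => ?_))
    obtain ⟨c, hc⟩ := hperm h a
    rw [hc]
    refine le_iSup₂_of_le c ?_ le_rfl
    rintro rfl
    exact hcon (by rw [← hc, finrank_map_gl])
  obtain ⟨a₀⟩ := hXne
  have hsumE := finrank_iSup_eq_sum E hEind hEtop
  rw [Finset.sum_congr rfl (fun a _ => hsame a a₀), Finset.sum_const, Finset.card_univ, smul_eq_mul] at hsumE
  rcases (Nat.dvd_prime hn).mp ⟨_, hsumE.symm⟩ with hcard | hcard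
  · -- a single eigenspace: scalars
    left
    intro x hx
    rw [hcard, one_mul] at hsumE
    have hfull : E a₀ = ⊤ := Submodule.eq_top_of_finrank_eq (by rw [hsumE, Module.finrank_pi])
    refine mem_scalars_of_eq_smul (c := a₀.1 ⟨x, hx⟩) (Matrix.toLin'.injective (LinearMap.ext fun v => ?_))
    have hv : v ∈ E a₀ := by rw [hfull]; exact Submodule.mem_top
    simpa [ev, Matrix.toLin'_apply, Matrix.smul_mulVec] using mem_eigen.mp hv ⟨x, hx⟩
  · -- a decomposition into lines
    right; right
    let e : Fin (Fintype.card ι) ≃ X := (Fintype.equivFinOfCardEq hcard).symm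
    have hone : ∀ i, Module.finrank F (E (e i)) = 1 := by
      intro i
      rw [hsame (e i) a₀]
      rw [hcard] at hsumE
      exact Nat.eq_of_mul_eq_mul_left hn.pos (by rw [hsumE, mul_one])
    refine ⟨fun i => E (e i), ⟨hn.two_le, one_pos, hone, hEind.comp e.injective, ?_⟩, ?_, hcomm,
      fun i x => (e i).1 x, fun i x v hv => by simpa [ev, Matrix.toLin'_apply] using mem_eigen.mp hv x⟩
    · rw [← hEtop]
      exact Equiv.iSup_congr e fun _ => rfl
    · intro h hh
      choose σ hσ using fun i => hperm ⟨h, hh⟩ (e i)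
      have hinj : Function.Injective fun i => e.symm (σ i) := by
        intro i j hij
        have h1 : σ i = σ j := e.symm.injective hij
        have h2 : E (e i) = E (e j) :=
          Submodule.map_injective_of_injective (toLin'_injective_of_gl h) ((hσ i).trans ((congrArg E h1).trans (hσ j).symm))
        by_contra hne'
        exact hne (e i) ((hEind (e i)).eq_bot_of_le
          (h2.le.trans (le_iSup₂_of_le (e j) (fun h => hne' (e.injective h.symm)) le_rfl)))
      refine ⟨Equiv.ofBijective _ (Finite.injective_iff_bijective.mp hinj), fun i => ?_⟩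
      simp only [Equiv.ofBijective_apply, Equiv.apply_symm_apply]
      exact hσ i

/-- A non-commutative normalised subgroup is absolutely irreducible. -/
theorem absIrr_of_nonabelian [Finite F] (hn : (Fintype.card ι).Prime) {H N : Subgroup (GL ι F)} (hH : Irr H)
    (hN : NormalisedBy H N) (hnc : ¬ ∀ x ∈ N, ∀ y ∈ N, x * y = y * x) : AbsIrr N := by
  rcases clifford hn hH hN with h | h | ⟨D, -, -, h, -⟩
  · exact absurd (fun x hx y _ => scalars_comm (h hx) y) hnc
  · by_contra hna
    exact hnc (comm_of_not_absIrr hn h hna)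
  · exact absurd h hnc

end CfsgLib.Techniques.AschPrime
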