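/-
Class two normal subgroups in odd prime degree give extraspecial groups of order `n ^ 3`.
-/
import Cfsg.Agent.Lib.Techniques.AschPrime.Clifford

set_option autoImplicit false

namespace CfsgLib.Techniques.AschPrime

open Matrix
open scoped MatrixGroups commutatorElement

variable {ι : Type} [Fintype ι] [DecidableEq ι] {F : Type*} [Field F]

theorem pow_mul_of_twist {G : Type*} [Group G] {x y z : G} (hz : ∀ g : G, z * g = g * z)
    (h : y * x = z * x * y) (k : ℕ) : (x * y) ^ k = z ^ k.choose 2 * x ^ k * y ^ k := by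
  have hzk : ∀ (j : ℕ) (g : G), z ^ j * g = g * z ^ j := fun j g =>
    ((show Commute z g from hz g).pow_left j).eq
  have h1 : ∀ j : ℕ, y ^ j * x = z ^ j * x * y ^ j := by
    intro j
    induction j with
    | zero => simp
    | succ j ih =>
      calc y ^ (j + 1) * x = y ^ j * (y * x) := by rw [pow_succ, mul_assoc]
        _ = y ^ j * z * x * y := by rw [h]; group
        _ = z * (y ^ j * x) * y := by rw [← hz (y ^ j)]; group
        _ = z * (z ^ j * x * y ^ j) * y := by rw [ih]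
        _ = z ^ (j + 1) * x * y ^ (j + 1) := by rw [pow_succ' z, pow_succ y]; group
  induction k with
  | zero => simp
  | succ k ih =>
    calc (x * y) ^ (k + 1) = z ^ k.choose 2 * x ^ k * (y ^ k * x) * y := by rw [pow_succ, ih]; group
      _ = z ^ k.choose 2 * (x ^ k * z ^ k) * x * y ^ k * y := by rw [h1]; group
      _ = z ^ k.choose 2 * (z ^ k * x ^ k) * x * y ^ k * y := by rw [← hzk k (x ^ k)]
      _ = z ^ (k + 1).choose 2 * x ^ (k + 1) * y ^ (k + 1) := by
          rw [Nat.choose_succ_succ' k 1, Nat.choose_one_right, add_comm k (k.choose 2), pow_add, pow_succ x,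
            pow_succ y]
          group

theorem scalar_pow_card {z : GL ι F} (hz : z ∈ Cfsg.Geo.scalars ι F) (hdet : z ∈ Cfsg.Geo.specialLinear ι F) :
    z ^ Fintype.card ι = 1 := by
  obtain ⟨c, hc⟩ := (Cfsg.Geo.mem_scalars_iff z).mp hz
  refine Units.ext ?_
  rw [Units.val_pow_eq_pow_val, hc, smul_pow, one_pow, Units.val_one]
  have h : (z : Matrix ι ι F).det = 1 := by
    rw [Cfsg.Geo.specialLinear, MonoidHom.mem_ker] at hdet
    rw [← Matrix.GeneralLinearGroup.val_det_apply, hdet, Units.val_one]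
  rw [hc, det_smul, det_one, mul_one] at h
  rw [h, one_smul]

/-- In prime degree, an element of determinant one with scalar power is a scalar multiple of an element of that
order. -/
theorem exists_root_of_pow_eq_scalar (hn : (Fintype.card ι).Prime)
    (hodd : Odd (Fintype.card ι)) {x : Matrix ι ι F} (hdet : x.det = 1) {c : F}
    (hx : x ^ Fintype.card ι = c • 1) : ∃ d : F, d ^ Fintype.card ι = c := by
  by_contra hno
  push Not at hno
  haveI : Nonempty ι := Fintype.card_pos_iff.mp hn.pos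
  have hirr := X_pow_sub_C_irreducible_of_prime hn hno
  have hmonic := Polynomial.monic_X_pow_sub_C c hn.ne_zero
  have haev : Polynomial.aeval x (Polynomial.X ^ Fintype.card ι - Polynomial.C c) = 0 := by
    rw [map_sub, map_pow, Polynomial.aeval_X, Polynomial.aeval_C, Algebra.algebraMap_eq_smul_one, hx, sub_self]
  have hmin : minpoly F x = Polynomial.X ^ Fintype.card ι - Polynomial.C c :=
    (minpoly.eq_of_irreducible_of_monic hirr haev hmonic).symm
  have hchar : x.charpoly = Polynomial.X ^ Fintype.card ι - Polynomial.C c :=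
    Polynomial.eq_of_monic_of_dvd_of_natDegree_le hmonic x.charpoly_monic
      (hmin ▸ Matrix.minpoly_dvd_charpoly x)
      (by rw [Matrix.charpoly_natDegree_eq_dim, Polynomial.natDegree_X_pow_sub_C])
  have h := Matrix.det_eq_sign_charpoly_coeff x
  rw [hdet, hchar, Polynomial.coeff_sub, Polynomial.coeff_X_pow, if_neg (Ne.symm hn.ne_zero),
    Polynomial.coeff_C_zero, zero_sub] at h
  rw [hodd.neg_one_pow, neg_one_mul, neg_neg] at h
  exact hno 1 (by rw [one_pow]; exact h)

/-- The data produced by a class two normal subgroup. -/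
structure ExtraData (H R : Subgroup (GL ι F)) : Prop where
  absIrr : AbsIrr R
  normalised : NormalisedBy H R
  le : R ≤ H ⊔ Cfsg.Geo.scalars ι F
  pow_eq_one : ∀ x ∈ R, x ^ Fintype.card ι = 1
  card_eq : Nat.card R = Fintype.card ι ^ 3
  card_center : Nat.card (Subgroup.center R) = Fintype.card ι
  symplecticType : Cfsg.Geo.IsSymplecticTypeGroup (Fintype.card ι) R
  root : ∃ ζ : F, IsPrimitiveRoot ζ (Fintype.card ι)
  basis : ∃ B : GL ι F,
    (∃ x ∈ R, ∃ d : ι → F, Function.Injective d ∧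
      (B : Matrix ι ι F) * (x : Matrix ι ι F) * ((B⁻¹ : GL ι F) : Matrix ι ι F) = Matrix.diagonal d) ∧
    ∀ s ∈ R, ∃ (π : Equiv.Perm ι) (c : ι → F), (∀ i, c i ^ Fintype.card ι = 1) ∧
      (B : Matrix ι ι F) * (s : Matrix ι ι F) * ((B⁻¹ : GL ι F) : Matrix ι ι F) =
        fun i j => if i = π j then c j else 0

section

variable [Finite F] (hn : (Fintype.card ι).Prime) (hodd : Odd (Fintype.card ι))
  {H N : Subgroup (GL ι F)} (hH : Irr H) (hHdet : H ≤ Cfsg.Geo.specialLinear ι F)
  (hab : ∀ A : Subgroup (GL ι F), A ≤ H → NormalisedBy H A → (∀ a ∈ A, ∀ b ∈ A, a * b = b * a) →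
    A ≤ Cfsg.Geo.scalars ι F)
  (hNH : N ≤ H) (hN : NormalisedBy H N) (hNs : ¬ N ≤ Cfsg.Geo.scalars ι F)
  (hN2 : ⁅N, N⁆ ≤ Cfsg.Geo.scalars ι F)

include hn hH hab hNH hN hNs in
theorem absIrr_of_class_two : AbsIrr N :=
  absIrr_of_nonabelian hn hH hN fun h => hNs (hab N hNH hN h)

include hodd hN2 hHdet hNH in
theorem twist_of_sup {x y : GL ι F} (hx : x ∈ N ⊔ Cfsg.Geo.scalars ι F) (hy : y ∈ N ⊔ Cfsg.Geo.scalars ι F) :
    ∃ z ∈ Cfsg.Geo.scalars ι F, z ^ Fintype.card ι = 1 ∧ y * x = z * x * y ∧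
      z ^ (Fintype.card ι).choose 2 = 1 := by
  obtain ⟨s, hs, a, ha, rfl⟩ := Subgroup.mem_sup_of_normal_right.mp hx
  obtain ⟨t, ht, b, hb, rfl⟩ := Subgroup.mem_sup_of_normal_right.mp hy
  have hz : ⁅t, s⁆ ∈ Cfsg.Geo.scalars ι F := hN2 (Subgroup.commutator_mem_commutator ht hs)
  have hzdet : ⁅t, s⁆ ∈ Cfsg.Geo.specialLinear ι F := by
    refine hHdet ?_
    rw [commutatorElement_def]
    exact H.mul_mem (H.mul_mem (H.mul_mem (hNH ht) (hNH hs)) (H.inv_mem (hNH ht))) (H.inv_mem (hNH hs))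
  have hpow := scalar_pow_card hz hzdet
  refine ⟨⁅t, s⁆, hz, hpow, ?_, ?_⟩
  · calc t * b * (s * a) = t * (b * s) * a := by group
      _ = t * s * (b * a) := by rw [scalars_comm hb s]; group
      _ = ⁅t, s⁆ * s * t * (a * b) := by rw [scalars_comm hb a, commutatorElement_def]; group
      _ = ⁅t, s⁆ * s * (t * a) * b := by group
      _ = ⁅t, s⁆ * (s * a) * (t * b) := by rw [← scalars_comm ha t]; group
  · obtain ⟨k, hk⟩ : Fintype.card ι ∣ (Fintype.card ι).choose 2 := by
      obtain ⟨m, hm⟩ := hodd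
      refine ⟨m, ?_⟩
      rw [Nat.choose_two_right, hm, Nat.add_sub_cancel, show (2 * m + 1) * (2 * m) = 2 * ((2 * m + 1) * m) by ring,
        Nat.mul_div_cancel_left _ two_pos]
    rw [hk, pow_mul, hpow, one_pow]

include hn hodd hH hab hNH hN hNs hN2 hHdet in
theorem exists_scale {s : GL ι F} (hs : s ∈ N) :
    ∃ a ∈ Cfsg.Geo.scalars ι F, (s * a) ^ Fintype.card ι = 1 := by
  classical
  haveI : Nonempty ι := Fintype.card_pos_iff.mp hn.pos
  have hscal : s ^ Fintype.card ι ∈ Cfsg.Geo.scalars ι F := by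
    refine (absIrr_of_class_two hn hH hab hNH hN hNs).mem_scalars fun t ht => ?_
    have hz : ⁅t, s⁆ ∈ Cfsg.Geo.scalars ι F := hN2 (Subgroup.commutator_mem_commutator ht hs)
    have hzdet : ⁅t, s⁆ ∈ Cfsg.Geo.specialLinear ι F := by
      refine hHdet ?_
      rw [commutatorElement_def]
      exact H.mul_mem (H.mul_mem (H.mul_mem (hNH ht) (hNH hs)) (H.inv_mem (hNH ht))) (H.inv_mem (hNH hs))
    have e : (t * s * t⁻¹) ^ Fintype.card ι = s ^ Fintype.card ι := by
      rw [show t * s * t⁻¹ = ⁅t, s⁆ * s by rw [commutatorElement_def]; group,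
        (show Commute ⁅t, s⁆ s from scalars_comm hz s).mul_pow, scalar_pow_card hz hzdet, one_mul]
    rw [conj_pow] at e
    rw [← mul_inv_eq_iff_eq_mul.mp e]
  obtain ⟨c, hc⟩ := (Cfsg.Geo.mem_scalars_iff _).mp hscal
  have hdet : (s : Matrix ι ι F).det = 1 := by
    have := hHdet (hNH hs)
    rw [Cfsg.Geo.specialLinear, MonoidHom.mem_ker] at this
    rw [← Matrix.GeneralLinearGroup.val_det_apply, this, Units.val_one]
  obtain ⟨d, hd⟩ := exists_root_of_pow_eq_scalar hn hodd hdet (by rw [← hc, Units.val_pow_eq_pow_val])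
  have hd0 : d ≠ 0 := fun h0 => c.ne_zero (by rw [← hd, h0, zero_pow hn.ne_zero])
  refine ⟨Units.map (Matrix.scalar ι : F →+* Matrix ι ι F).toMonoidHom (Units.mk0 d hd0)⁻¹, ⟨_, rfl⟩, ?_⟩
  rw [(show Commute _ _ from (scalars_comm ⟨_, rfl⟩ s).symm).mul_pow, ← map_pow]
  refine Units.ext ?_
  rw [Units.val_mul, Units.val_one, hc]
  simp [← Matrix.smul_one_eq_diagonal, smul_pow, hd, inv_pow, smul_smul]

/-- The elements of exponent dividing the degree in the product of a class two subgroup with the scalars. -/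
def omegaSubgroup : Subgroup (GL ι F) where
  carrier := {x | x ∈ N ⊔ Cfsg.Geo.scalars ι F ∧ x ^ Fintype.card ι = 1}
  one_mem' := ⟨one_mem _, one_pow _⟩
  inv_mem' {x} hx := ⟨inv_mem hx.1, by rw [inv_pow, hx.2, inv_one]⟩
  mul_mem' {x y} hx hy := ⟨mul_mem hx.1 hy.1, by
    obtain ⟨z, hz, -, hyx, hch⟩ := twist_of_sup hodd hHdet hNH hN2 hx.1 hy.1
    rw [pow_mul_of_twist (scalars_comm hz) hyx, hch, hx.2, hy.2, one_mul, one_mul]⟩

include hn hH hab hN hNs in
theorem extraData : ExtraData H (omegaSubgroup hodd hHdet hNH hN2) := by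
  classical
  haveI : Nonempty ι := Fintype.card_pos_iff.mp hn.pos
  haveI : Finite (Matrix ι ι F) := Module.finite_of_finite F
  haveI : Finite (GL ι F) := Finite.of_injective _ Units.val_injective
  haveI : Fact (Fintype.card ι).Prime := ⟨hn⟩
  set R := omegaSubgroup hodd hHdet hNH hN2 with hRdef
  set n := Fintype.card ι with hndef
  have hR1 : ∀ x ∈ R, x ∈ N ⊔ Cfsg.Geo.scalars ι F := fun x hx => hx.1
  have hpow : ∀ x ∈ R, x ^ n = 1 := fun x hx => hx.2
  have hscale : ∀ s ∈ N, ∃ a ∈ Cfsg.Geo.scalars ι F, s * a ∈ R := fun s hs => by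
    obtain ⟨a, ha, h⟩ := exists_scale hn hodd hH hHdet hab hNH hN hNs hN2 hs
    exact ⟨a, ha, Subgroup.mul_mem_sup hs ha, h⟩
  have hNirr := absIrr_of_class_two hn hH hab hNH hN hNs
  have habs : AbsIrr R := by
    refine ⟨(irr_iff R).mpr fun W hW => (irr_iff N).mp hNirr.1 W fun s hs w hw => ?_, fun M hM => ?_⟩
    · obtain ⟨a, ha, hsa⟩ := hscale s hs
      obtain ⟨c, hc⟩ := (Cfsg.Geo.mem_scalars_iff a).mp ha
      have h1 := hW _ hsa w hw
      rw [Units.val_mul, hc, Matrix.mul_smul, Matrix.mul_one, Matrix.smul_mulVec] at h1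
      exact (Submodule.smul_mem_iff _ c.ne_zero).mp h1
    · refine hNirr.scalar fun s hs => ?_
      obtain ⟨a, ha, hsa⟩ := hscale s hs
      obtain ⟨c, hc⟩ := (Cfsg.Geo.mem_scalars_iff a).mp ha
      have h1 := hM _ ⟨_, hsa, rfl⟩
      simp only [Units.val_mul, hc, Matrix.mul_smul, Matrix.mul_one, Matrix.smul_mul] at h1
      exact smul_right_injective _ c.ne_zero h1
  have hnorm : NormalisedBy H R := by
    intro h hh x hx
    refine ⟨?_, by rw [conj_pow, hpow x hx, mul_one, mul_inv_cancel]⟩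
    obtain ⟨s, hs, a, ha, rfl⟩ := Subgroup.mem_sup_of_normal_right.mp (hR1 x hx)
    rw [show h * (s * a) * h⁻¹ = h * s * h⁻¹ * (h * a * h⁻¹) by group]
    exact Subgroup.mul_mem_sup (hN h hh s hs) ((Cfsg.Geo.scalars_normal (ι := ι) (F := F)).conj_mem a ha h)
  -- the commutator character
  have hchi : ∀ y x : R, ∃ c : Fˣ, (c : F) ^ n = 1 ∧
      (((y : GL ι F) * x * (y : GL ι F)⁻¹ : GL ι F) : Matrix ι ι F) = (c : F) • ((x : GL ι F) : Matrix ι ι F) := by
    intro y x
    obtain ⟨z, hz, hzn, hyx, -⟩ := twist_of_sup hodd hHdet hNH hN2 (hR1 x x.2) (hR1 y y.2)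
    obtain ⟨c, hc⟩ := (Cfsg.Geo.mem_scalars_iff z).mp hz
    refine ⟨c, ?_, ?_⟩
    · have h1 := congrArg (fun u : GL ι F => (u : Matrix ι ι F) (Classical.arbitrary ι) (Classical.arbitrary ι)) hzn
      simpa [Units.val_pow_eq_pow_val, hc, smul_pow] using h1
    · rw [hyx, mul_inv_cancel_right, Units.val_mul, hc, Matrix.smul_mul, Matrix.one_mul]
  choose χ hχn hχ using hchi
  have hne0 : ∀ x : R, ((x : GL ι F) : Matrix ι ι F) ≠ 0 := fun x => Units.ne_zero (x : GL ι F)
  have huniq : ∀ (y x : R) (c : F),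
      (((y : GL ι F) * x * (y : GL ι F)⁻¹ : GL ι F) : Matrix ι ι F) = c • ((x : GL ι F) : Matrix ι ι F) →
      c = (χ y x : F) := fun y x c hc => smul_left_injective F (hne0 x) (hc.symm.trans (hχ y x))
  let Φ : R →* (R → Fˣ) :=
    MonoidHom.mk' (fun x y => χ y x) fun a b => funext fun y => Units.ext <| Eq.symm <| huniq y (a * b) _ (by
      rw [Subgroup.coe_mul, show (y : GL ι F) * (a * b) * (y : GL ι F)⁻¹ =
        ((y : GL ι F) * a * (y : GL ι F)⁻¹) * ((y : GL ι F) * b * (y : GL ι F)⁻¹) by group, Units.val_mul,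
        hχ y a, hχ y b, Units.val_mul]
      simp only [Pi.mul_apply, Units.val_mul, Matrix.smul_mul, Matrix.mul_smul, smul_smul]
      rw [mul_comm])
  have hker : Φ.ker = Subgroup.center R := by
    ext x
    rw [MonoidHom.mem_ker, Subgroup.mem_center_iff]
    constructor
    · intro h y
      have h1 := hχ y x
      rw [show χ y x = 1 from congrFun h y, Units.val_one, one_smul] at h1
      exact Subtype.ext (mul_inv_eq_iff_eq_mul.mp (Units.ext h1))
    · intro h
      refine funext fun y => Units.ext (huniq y x _ ?_).symm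
      have h1 : (y : GL ι F) * x = x * y := congrArg Subtype.val (h y)
      simp [h1, mul_assoc]
  have hncom : ¬ ∀ a b : R, a * b = b * a := by
    intro hcom
    apply hNs
    intro s hs
    obtain ⟨a, ha, hsa⟩ := hscale s hs
    have h1 : s * a ∈ Cfsg.Geo.scalars ι F :=
      habs.mem_scalars fun t ht => congrArg Subtype.val (hcom ⟨_, hsa⟩ ⟨t, ht⟩)
    have := mul_mem h1 (inv_mem ha)
    rwa [mul_inv_cancel_right] at this
  obtain ⟨ζ, hζ, x₀, y₀, hxy⟩ : ∃ ζ : F, IsPrimitiveRoot ζ n ∧ ∃ x₀ y₀ : R, (χ y₀ x₀ : F) = ζ := by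
    push Not at hncom
    obtain ⟨a, b, hab'⟩ := hncom
    refine ⟨(χ b a : F), ?_, a, b, rfl⟩
    refine IsPrimitiveRoot.iff_orderOf.mpr ?_
    refine orderOf_eq_prime (hχn b a) fun h1 => hab' ?_
    have h2 := hχ b a
    rw [h1, one_smul] at h2
    exact (Subtype.ext (mul_inv_eq_iff_eq_mul.mp (Units.ext h2))).symm
  haveI : NeZero n := ⟨hn.ne_zero⟩
  have hpG : IsPGroup n R := fun x => ⟨1, Subtype.ext (by rw [pow_one, Subgroup.coe_pow, hpow x x.2]; rfl)⟩
  -- the centre
  let emb : rootsOfUnity n F →* GL ι F :=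
    (Units.map (Matrix.scalar ι : F →+* Matrix ι ι F).toMonoidHom).comp (rootsOfUnity n F).subtype
  have hembR : ∀ u, emb u ∈ R := fun u => ⟨Subgroup.mem_sup_right ⟨_, rfl⟩, by
    rw [← map_pow, show u ^ n = 1 from Subtype.ext ((mem_rootsOfUnity _ _).mp u.2), map_one]⟩
  have hcenter : Nat.card (Subgroup.center R) = n := by
    have hrange : (emb.codRestrict R hembR).range = Subgroup.center R := by
      ext x
      rw [Subgroup.mem_center_iff]
      constructor
      · rintro ⟨u, rfl⟩ y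
        exact Subtype.ext (scalars_comm ⟨_, rfl⟩ (y : GL ι F)).symm
      · intro h
        obtain ⟨c, hc⟩ := habs.mem_scalars (g := (x : GL ι F)) fun t ht =>
          (congrArg Subtype.val (h ⟨t, ht⟩)).symm
        refine ⟨⟨c, (mem_rootsOfUnity _ _).mpr (Units.ext ?_)⟩, Subtype.ext hc⟩
        have h1 := hpow x x.2
        rw [← hc, ← map_pow] at h1
        have h2 := congrArg (fun u : GL ι F => (u : Matrix ι ι F) (Classical.arbitrary ι) (Classical.arbitrary ι)) h1
        simpa [Matrix.diagonal_pow] using h2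
    have hinj : Function.Injective (emb.codRestrict R hembR) := by
      intro a b h
      have h2 := congrArg (fun u : R => ((u : GL ι F) : Matrix ι ι F) (Classical.arbitrary ι) (Classical.arbitrary ι)) h
      exact Subtype.ext (Units.ext (by simpa [emb] using h2))
    rw [← hrange, ← Nat.card_congr (MonoidHom.ofInjective hinj).toEquiv, hζ.card_rootsOfUnity]
  have hbound : Nat.card Φ.range ≤ n ^ 2 := by
    let T : R → Matrix ι ι F →ₗ[F] Matrix ι ι F := fun y =>
      LinearMap.mulLeftRight F (((y : GL ι F) : Matrix ι ι F), (((y : GL ι F)⁻¹ : GL ι F) : Matrix ι ι F))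
    haveI : Fintype Φ.range := Fintype.ofFinite _
    have hpick : ∀ u : Φ.range, ∃ M ∈ eigen T (fun y => ((u.1 y : Fˣ) : F)), M ≠ 0 := by
      rintro ⟨_, x, rfl⟩
      refine ⟨((x : GL ι F) : Matrix ι ι F), mem_eigen.mpr fun y => ?_, hne0 x⟩
      have h1 := hχ y x
      rw [Units.val_mul, Units.val_mul] at h1
      simpa [T, Φ, LinearMap.mulLeftRight_apply] using h1
    choose M hM hM0 using hpick
    have hind : iSupIndep fun u : Φ.range => eigen T (fun y => ((u.1 y : Fˣ) : F)) :=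
      (eigen_indep T).comp fun u v h => Subtype.ext (funext fun y => Units.ext (congrFun h y))
    have h2 := (hind.linearIndependent _ hM hM0).fintype_card_le_finrank
    rw [Module.finrank_matrix, Module.finrank_self, mul_one] at h2
    rw [Nat.card_eq_fintype_card, sq]
    exact h2
  obtain ⟨k, hk⟩ := IsPGroup.iff_card.mp ((IsPGroup.of_surjective hpG Φ.rangeRestrict Φ.rangeRestrict_surjective :
    IsPGroup n Φ.range))
  have hk2 : k = 2 := by
    refine le_antisymm ((Nat.pow_le_pow_iff_right hn.one_lt).mp (hk ▸ hbound)) ?_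
    by_contra hlt
    apply hncom
    haveI : IsCyclic Φ.range := by
      rcases (show k = 0 ∨ k = 1 by omega) with rfl | rfl
      · haveI : Subsingleton Φ.range := (Nat.card_eq_one_iff_unique.mp (by rw [hk, pow_zero])).1
        exact isCyclic_of_subsingleton
      · exact isCyclic_of_prime_card (p := n) (by rw [hk, pow_one])
    exact fun a b => commutative_of_cyclic_center_quotient Φ.rangeRestrict
      (by rw [MonoidHom.ker_rangeRestrict, hker]) a b
  have hcard : Nat.card R = n ^ 3 := by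
    rw [Subgroup.card_eq_card_quotient_mul_card_subgroup Φ.ker,
      Nat.card_congr (QuotientGroup.quotientKerEquivRange Φ).toEquiv, hk, hk2, hker, hcenter]
    ring
  refine ⟨habs, hnorm, fun x hx => sup_le_sup_right hNH _ (hR1 x hx), hpow, hcard, hcenter,
    ⟨hn, hpG, fun A hA hAc => ?_, ?_⟩, ⟨ζ, hζ⟩, ?_⟩
  · -- characteristic abelian subgroups are central
    have hle : A ≤ Subgroup.center R := by
      intro a ha
      have key : ∀ h ∈ H, ∀ b ∈ A.map R.subtype, h * b * h⁻¹ ∈ A.map R.subtype := by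
        rintro h hh _ ⟨b, hb, rfl⟩
        let φ : R ≃* R :=
          { toFun := fun u => ⟨h * u * h⁻¹, hnorm h hh u u.2⟩
            invFun := fun u => ⟨h⁻¹ * u * h, hnorm.inv_mem hh u.2⟩
            left_inv := fun u => Subtype.ext (show h⁻¹ * (h * u * h⁻¹) * h = u by group)
            right_inv := fun u => Subtype.ext (show h * (h⁻¹ * u * h) * h⁻¹ = u by group)
            map_mul' := fun u v => Subtype.ext (show h * ((u : GL ι F) * v) * h⁻¹ = h * u * h⁻¹ * (h * v * h⁻¹) by group) }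
        exact ⟨φ b, by rw [← Subgroup.characteristic_iff_comap_eq.mp hA φ] at hb; exact hb, rfl⟩
      have hA' := hab ((A.map R.subtype ⊔ Cfsg.Geo.scalars ι F) ⊓ H) inf_le_right
        (fun h hh x hx => ⟨by
          obtain ⟨b, hb, c, hc, rfl⟩ := Subgroup.mem_sup_of_normal_right.mp hx.1
          rw [show h * (b * c) * h⁻¹ = h * b * h⁻¹ * (h * c * h⁻¹) by group]
          exact Subgroup.mul_mem_sup (key h hh b hb) ((Cfsg.Geo.scalars_normal (ι := ι) (F := F)).conj_mem c hc h),
          H.mul_mem (H.mul_mem hh hx.2) (H.inv_mem hh)⟩)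
        (fun x hx y hy => by
          obtain ⟨_, ⟨b, hb, rfl⟩, c, hc, rfl⟩ := Subgroup.mem_sup_of_normal_right.mp hx.1
          obtain ⟨_, ⟨b', hb', rfl⟩, c', hc', rfl⟩ := Subgroup.mem_sup_of_normal_right.mp hy.1
          have hbb : (b : GL ι F) * b' = b' * b :=
            congrArg Subtype.val (congrArg Subtype.val (hAc.is_comm.comm (⟨b, hb⟩ : A) ⟨b', hb'⟩))
          calc (b : GL ι F) * c * ((b' : GL ι F) * c') = b * (c * b') * c' := by group
            _ = (b : GL ι F) * b' * (c * c') := by rw [scalars_comm hc]; group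
            _ = (b' : GL ι F) * b * (c' * c) := by rw [hbb, scalars_comm hc]
            _ = (b' : GL ι F) * (b * c') * c := by group
            _ = (b' : GL ι F) * c' * ((b : GL ι F) * c) := by rw [← scalars_comm hc']; group)
      rw [Subgroup.mem_center_iff]
      obtain ⟨s, hs, c, hc, e⟩ := Subgroup.mem_sup_of_normal_right.mp (hR1 a a.2)
      have hs' : s ∈ Cfsg.Geo.scalars ι F := hA' ⟨Subgroup.mem_sup_of_normal_right.mpr
        ⟨_, ⟨a, ha, rfl⟩, c⁻¹, inv_mem hc, by rw [Subgroup.coe_subtype, ← e, mul_inv_cancel_right]⟩, hNH hs⟩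
      intro b
      exact Subtype.ext (scalars_comm (e ▸ mul_mem hs' hc : (a : GL ι F) ∈ Cfsg.Geo.scalars ι F) (b : GL ι F)).symm
    haveI : IsCyclic (Subgroup.center R) := isCyclic_of_prime_card hcenter
    exact isCyclic_of_injective (Subgroup.inclusion hle) (Subgroup.inclusion_injective hle)
  · rw [Nat.Coprime.gcd_eq_one ((Nat.coprime_primes Nat.prime_two hn).mpr (by rintro h2; rw [← h2] at hodd; exact absurd hodd (by decide))), mul_one]
    have hdvd : Monoid.exponent R ∣ n :=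
      Monoid.exponent_dvd_of_forall_pow_eq_one fun x => Subtype.ext (by rw [Subgroup.coe_pow, hpow x x.2]; rfl)
    rcases (Nat.dvd_prime hn).mp hdvd with h1 | h1
    · exfalso
      apply hncom
      haveI := Monoid.exp_eq_one_iff.mp h1
      exact fun a b => Subsingleton.elim _ _
    · exact h1
  -- an adapted basis
  have hx0n : ((x₀ : GL ι F) : Matrix ι ι F) ^ n = 1 := by
    rw [← Units.val_pow_eq_pow_val, hpow _ x₀.2, Units.val_one]
  obtain ⟨l, hl⟩ : ∃ l : F, Module.End.HasEigenvalue (Matrix.toLin' ((x₀ : GL ι F) : Matrix ι ι F)) l := by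
    have hmd : minpoly F (Matrix.toLin' ((x₀ : GL ι F) : Matrix ι ι F)) ∣
        ∏ μ ∈ Polynomial.nthRootsFinset n (1 : F), (Polynomial.X - Polynomial.C μ) := by
      rw [← Polynomial.X_pow_sub_one_eq_prod hn.pos hζ]
      refine minpoly.dvd _ _ ?_
      simp only [map_sub, map_pow, Polynomial.aeval_X, map_one]
      rw [← Matrix.toLin'_pow, hx0n, Matrix.toLin'_one]
      exact sub_self _
    obtain ⟨g, hg, hgd⟩ := WfDvdMonoid.exists_irreducible_factor
      (minpoly.not_isUnit F (Matrix.toLin' ((x₀ : GL ι F) : Matrix ι ι F)))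
      (minpoly.ne_zero (Algebra.IsIntegral.isIntegral _))
    obtain ⟨l, -, hl⟩ := hg.prime.exists_mem_finset_dvd (hgd.trans hmd)
    refine ⟨l, Module.End.hasEigenvalue_of_isRoot ?_⟩
    have hassoc := hg.associated_of_dvd (Polynomial.irreducible_X_sub_C l) hl
    exact Polynomial.dvd_iff_isRoot.mp (hassoc.symm.dvd.trans hgd)
  obtain ⟨v, hv⟩ := hl.exists_hasEigenvector
  have hv' : ((x₀ : GL ι F) : Matrix ι ι F) *ᵥ v = l • v := by simpa [Matrix.toLin'_apply] using hv.apply_eq_smul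
  let w : ℕ → ι → F := fun i => (((y₀ : GL ι F) ^ i : GL ι F) : Matrix ι ι F) *ᵥ v
  have hcomm0 : (x₀ : GL ι F).val * (y₀ : GL ι F).val = ζ⁻¹ • ((y₀ : GL ι F).val * (x₀ : GL ι F).val) := by
    have h1 := hχ y₀ x₀
    rw [hxy, Units.val_mul, Units.val_mul] at h1
    have h2 := congrArg (· * (y₀ : GL ι F).val) h1
    simp only [mul_assoc, Units.inv_mul, mul_one, Matrix.smul_mul] at h2
    rw [h2, smul_smul, inv_mul_cancel₀ (hζ.ne_zero hn.ne_zero), one_smul]
  have hw : ∀ i, (x₀ : GL ι F).val *ᵥ w i = (l * ζ⁻¹ ^ i) • w i := by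
    intro i
    induction i with
    | zero => simp [w, hv']
    | succ i ih =>
      have e : w (i + 1) = (y₀ : GL ι F).val *ᵥ w i := by
        simp only [w, pow_succ', Units.val_mul, mulVec_mulVec]
      rw [e, mulVec_mulVec, hcomm0, Matrix.smul_mulVec, ← mulVec_mulVec, ih, mulVec_smul, smul_smul, pow_succ]
      congr 1
      ring
  have hl0 : l ≠ 0 := fun h0 => hv.2 (mulVec_inj (x₀ : GL ι F) (by rw [hv', h0, zero_smul, mulVec_zero]))
  have hinjl : Function.Injective fun i : Fin n => l * ζ⁻¹ ^ (i : ℕ) := fun a b h =>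
    Fin.ext (hζ.inv.pow_inj a.2 b.2 (mul_left_cancel₀ hl0 h))
  have hwne : ∀ i, w i ≠ 0 := fun i h0 => hv.2 (mulVec_inj ((y₀ : GL ι F) ^ i) (h0.trans (mulVec_zero _).symm))
  have hli : LinearIndependent F fun i : Fin n => w i :=
    Module.End.eigenvectors_linearIndependent' (Matrix.toLin' (x₀ : GL ι F).val) _ hinjl _
      fun i => ⟨Module.End.mem_eigenspace_iff.mpr (by rw [Matrix.toLin'_apply, hw]), hwne i⟩
  let e : ι ≃ Fin n := Fintype.equivFin ι
  let C : Matrix ι ι F := Matrix.of fun a i => w (e i) a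
  have hCcol : ∀ i, C *ᵥ Pi.single i 1 = w (e i) := fun i => by
    funext a
    simp [C]
  have hCdet : IsUnit C.det := by
    rw [← Matrix.isUnit_iff_isUnit_det, ← Matrix.linearIndependent_cols_iff_isUnit]
    exact hli.comp e e.injective
  let B : GL ι F := (Matrix.GeneralLinearGroup.mk'' C hCdet)⁻¹
  have hBC : (B⁻¹ : GL ι F).val = C := by simp only [B, inv_inv]; rfl
  have hbasis : ∀ u : GL ι F, ∀ (f : ι → ι) (c : ι → F), (∀ i, u.val *ᵥ w (e i) = c i • w (e (f i))) →
      B.val * u.val * (B⁻¹ : GL ι F).val = fun a j => if a = f j then c j else 0 := by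
    intro u f c hu
    refine Matrix.ext_of_mulVec_single fun j => ?_
    rw [← mulVec_mulVec, hBC, hCcol, ← mulVec_mulVec, hu, mulVec_smul, ← hCcol, mulVec_mulVec, ← hBC,
      Units.mul_inv, one_mulVec]
    funext a
    simp [Matrix.mulVec, dotProduct, Pi.single_apply]
  have hy0n : (y₀ : GL ι F) ^ n = 1 := hpow _ y₀.2
  have hwmod : ∀ i, w (i % n) = w i := fun i => by simp only [w]; rw [← pow_eq_pow_mod i hy0n]
  refine ⟨B, ⟨x₀, x₀.2, fun i => l * ζ⁻¹ ^ (e i : ℕ), fun a b h => e.injective (hinjl h), ?_⟩, fun s hs => ?_⟩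
  · rw [hbasis x₀ id (fun i => l * ζ⁻¹ ^ (e i : ℕ)) fun i => hw _]
    ext a j
    by_cases h : a = j <;> simp [Matrix.diagonal, h]
  obtain ⟨j, -, hj⟩ := hζ.eq_pow_of_pow_eq_one (hχn ⟨s, hs⟩ x₀)
  let s₀ : R := (y₀ ^ j)⁻¹ * ⟨s, hs⟩
  have hyj : ∀ k : ℕ, ((y₀ : GL ι F) ^ k * x₀ * ((y₀ : GL ι F) ^ k)⁻¹).val = ζ ^ k • (x₀ : GL ι F).val := by
    intro k
    induction k with
    | zero => simp
    | succ k ih =>
      rw [pow_succ' (y₀ : GL ι F), show (y₀ : GL ι F) * (y₀ : GL ι F) ^ k * x₀ * ((y₀ : GL ι F) * (y₀ : GL ι F) ^ k)⁻¹ =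
        (y₀ : GL ι F) * ((y₀ : GL ι F) ^ k * x₀ * ((y₀ : GL ι F) ^ k)⁻¹) * (y₀ : GL ι F)⁻¹ by group,
        Units.val_mul, Units.val_mul, ih, Matrix.mul_smul, Matrix.smul_mul, ← Units.val_mul,
        ← Units.val_mul, hχ, hxy, smul_smul, pow_succ]
  have hs0x : (s₀ : GL ι F) * x₀ = x₀ * s₀ := by
    have h1 : s * x₀ * s⁻¹ = (y₀ : GL ι F) ^ j * x₀ * ((y₀ : GL ι F) ^ j)⁻¹ :=
      Units.ext ((hχ ⟨s, hs⟩ x₀).trans (by rw [hyj, hj]))
    simp only [s₀, Subgroup.coe_mul, Subgroup.coe_inv, Subgroup.coe_pow]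
    calc ((y₀ : GL ι F) ^ j)⁻¹ * s * x₀ = ((y₀ : GL ι F) ^ j)⁻¹ * (s * x₀ * s⁻¹) * s := by group
      _ = _ := by rw [h1]; group
  have hdiag : ∀ i, ∃ c : F, (s₀ : GL ι F).val *ᵥ w (e i) = c • w (e i) := by
    intro i
    let b : Module.Basis ι F (ι → F) := basisOfLinearIndependentOfCardEqFinrank
      (hli.comp e e.injective) (by rw [Module.finrank_pi])
    have hb : ∀ k, b k = w (e k) := fun k => by simp [b]
    refine ⟨b.repr ((s₀ : GL ι F).val *ᵥ w (e i)) i, ?_⟩
    set u := (s₀ : GL ι F).val *ᵥ w (e i) with hu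
    have hxu : (x₀ : GL ι F).val *ᵥ u = (l * ζ⁻¹ ^ (e i : ℕ)) • u := by
      rw [hu, mulVec_mulVec, ← Units.val_mul, ← hs0x, Units.val_mul, ← mulVec_mulVec, hw, mulVec_smul]
    have hzero : ∀ k, k ≠ i → b.repr u k = 0 := by
      intro k hk
      have h1 : b.repr ((x₀ : GL ι F).val *ᵥ u) k = (l * ζ⁻¹ ^ (e k : ℕ)) * b.repr u k := by
        conv_lhs => rw [← b.sum_repr u, Matrix.mulVec_sum]
        simp only [mulVec_smul, hb, hw]
        simp only [map_sum, map_smul, ← hb, b.repr_self, Finsupp.smul_single, smul_eq_mul, mul_one,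
          Finsupp.coe_finsetSum, Finset.sum_apply, Finsupp.single_apply, Finset.sum_ite_eq', Finset.mem_univ, if_true]
        exact mul_comm _ _
      rw [hxu, map_smul, Finsupp.smul_apply, smul_eq_mul] at h1
      by_contra hne
      exact hk (e.injective (hinjl (mul_right_cancel₀ hne h1)).symm)
    conv_lhs => rw [← b.sum_repr u]
    rw [Finset.sum_eq_single i (fun k _ hk => by rw [hzero k hk, zero_smul]) (by simp), hb]
  choose c hc using hdiag
  have hcn : ∀ i, c i ^ n = 1 := by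
    intro i
    have hk : ∀ k : ℕ, ((s₀ : GL ι F) ^ k : GL ι F).val *ᵥ w (e i) = c i ^ k • w (e i) := by
      intro k
      induction k with
      | zero => simp
      | succ k ih =>
        rw [pow_succ, Units.val_mul, ← mulVec_mulVec, hc, mulVec_smul, ih, smul_smul, pow_succ, mul_comm]
    have h1 := hk n
    rw [hpow _ s₀.2, Units.val_one, one_mulVec] at h1
    exact smul_left_injective F (hwne _) (h1.symm.trans (one_smul F _).symm)
  let π : Equiv.Perm ι := e.trans ((Equiv.addRight (Fin.ofNat n j)).trans e.symm)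
  have hπw : ∀ i, w (e (π i)) = w (j + e i) := fun i => by
    rw [← hwmod (j + e i)]
    congr 1
    simp [π, Fin.val_add, Nat.add_mod, add_comm]
  have hsy : ∀ i, ((y₀ ^ j : R) : GL ι F).val *ᵥ w (e i) = w (e (π i)) := fun i => by
    rw [hπw]
    simp only [w, Subgroup.coe_pow, mulVec_mulVec, ← Units.val_mul, pow_add]
  refine ⟨π, c, hcn, hbasis s π c fun i => ?_⟩
  rw [show s = (y₀ ^ j : R).1 * (s₀ : GL ι F) by simp [s₀], Units.val_mul, ← mulVec_mulVec, hc, mulVec_smul, hsy]

end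

end CfsgLib.Techniques.AschPrime
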