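/-
The case division for irreducible subgroups of prime degree.
-/
import Cfsg.Agent.Lib.Techniques.AschPrime.Extra
import Cfsg.Agent.Lib.ThreeTransp.Solv

set_option autoImplicit false

namespace CfsgLib.Techniques.AschPrime

open Matrix
open scoped MatrixGroups commutatorElement

variable {ι : Type} [Fintype ι] [DecidableEq ι] {F : Type*} [Field F]

/-- The part of the residual core conditions that does not mention subfields. -/
structure CoreData (H P : Subgroup (GL ι F)) : Prop where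
  le : P ≤ H
  normal : NormalisedBy H P
  perfect : ⁅P, P⁆ = P
  simple : IsSimpleGroup (P ⧸ (Cfsg.Geo.scalars ι F).subgroupOf P)
  nonabelian : ¬ IsMulCommutative (P ⧸ (Cfsg.Geo.scalars ι F).subgroupOf P)
  centralizer_scalar : ∀ h ∈ H, (∀ x ∈ P, h * x * h⁻¹ * x⁻¹ ∈ Cfsg.Geo.scalars ι F) → h ∈ Cfsg.Geo.scalars ι F
  absIrred : AbsIrr P

theorem NormalisedBy.comm_self {H N : Subgroup (GL ι F)} (hN : NormalisedBy H N) :
    NormalisedBy H ⁅N, N⁆ := by
  intro h hh x hx
  have hle : ⁅N, N⁆ ≤ (⁅N, N⁆).comap (MulAut.conj h).toMonoidHom :=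
    Subgroup.commutator_le.mpr fun a ha b hb => by
      rw [Subgroup.mem_comap, map_commutatorElement]
      exact Subgroup.commutator_mem_commutator (hN h hh a ha) (hN h hh b hb)
  exact hle hx

theorem NormalisedBy.map_conj {P M : Subgroup (GL ι F)} (hM : NormalisedBy P M) {h : GL ι F}
    (hP : ∀ x ∈ P, h⁻¹ * x * h ∈ P) : NormalisedBy P (M.map (MulAut.conj h).toMonoidHom) := by
  rintro p hp _ ⟨x, hx, rfl⟩
  refine ⟨(h⁻¹ * p * h) * x * (h⁻¹ * p * h)⁻¹, hM _ (hP p hp) x hx, ?_⟩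
  change h * ((h⁻¹ * p * h) * x * (h⁻¹ * p * h)⁻¹) * h⁻¹ = p * (h * x * h⁻¹) * p⁻¹
  group

theorem NormalisedBy.sup {H A B : Subgroup (GL ι F)} (hA : NormalisedBy H A) (hB : NormalisedBy H B) :
    NormalisedBy H (A ⊔ B) := by
  intro h hh x hx
  have hle : A ⊔ B ≤ (A ⊔ B).comap (MulAut.conj h).toMonoidHom :=
    sup_le (fun a ha => Subgroup.mem_sup_left (hA h hh a ha)) (fun b hb => Subgroup.mem_sup_right (hB h hh b hb))
  exact hle hx

theorem le_normalizer_of {H A : Subgroup (GL ι F)} (hA : NormalisedBy H A) :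
    H ≤ Subgroup.normalizer (A : Set (GL ι F)) := fun h hh => Subgroup.mem_normalizer_iff.mpr fun x => by
  refine ⟨fun hx => hA h hh x hx, fun hx => ?_⟩
  have := hA.inv_mem hh hx
  rwa [show h⁻¹ * (h * x * h⁻¹) * h = x by group] at this

/-- A centraliser modulo scalars of a perfect subgroup centralises it. -/
theorem comm_of_comm_mod_scalars {P : Subgroup (GL ι F)} (hperf : ⁅P, P⁆ = P) {h : GL ι F}
    (hh : ∀ x ∈ P, h * x * h⁻¹ * x⁻¹ ∈ Cfsg.Geo.scalars ι F) : ∀ x ∈ P, h * x = x * h := by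
  let δ : GL ι F → GL ι F := fun x => h * x * h⁻¹ * x⁻¹
  intro x hx
  let C : Subgroup (GL ι F) := Subgroup.centralizer {h}
  suffices P ≤ C by exact (Subgroup.mem_centralizer_singleton_iff.mp (this hx)).symm
  rw [← hperf, Subgroup.commutator_le]
  intro a ha b hb
  rw [Subgroup.mem_centralizer_singleton_iff]
  have hsa : ∀ y ∈ P, h * y * h⁻¹ = δ y * y := fun y _ => (inv_mul_cancel_right _ _).symm
  have e : h * ⁅a, b⁆ * h⁻¹ = ⁅a, b⁆ := by
    rw [commutatorElement_def, show h * (a * b * a⁻¹ * b⁻¹) * h⁻¹ =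
      (h * a * h⁻¹) * (h * b * h⁻¹) * (h * a * h⁻¹)⁻¹ * (h * b * h⁻¹)⁻¹ by group, hsa a ha, hsa b hb]
    have ca := scalars_comm (hh a ha)
    have cb := scalars_comm (hh b hb)
    have cb' := scalars_comm (inv_mem (hh b hb))
    have ca' := scalars_comm (inv_mem (hh a ha))
    calc δ a * a * (δ b * b) * (δ a * a)⁻¹ * (δ b * b)⁻¹
        = δ a * (a * δ b) * (b * a⁻¹) * (δ a)⁻¹ * b⁻¹ * (δ b)⁻¹ := by group
      _ = δ a * (δ b * a) * (b * a⁻¹) * (δ a)⁻¹ * b⁻¹ * (δ b)⁻¹ := by rw [cb a]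
      _ = δ a * (δ b * (a * b * a⁻¹ * (δ a)⁻¹)) * b⁻¹ * (δ b)⁻¹ := by group
      _ = δ a * (δ b * ((δ a)⁻¹ * (a * b * a⁻¹))) * b⁻¹ * (δ b)⁻¹ := by rw [ca' (a * b * a⁻¹)]
      _ = δ a * δ b * (δ a)⁻¹ * ((a * b * a⁻¹ * b⁻¹) * (δ b)⁻¹) := by group
      _ = δ a * δ b * (δ a)⁻¹ * ((δ b)⁻¹ * (a * b * a⁻¹ * b⁻¹)) := by rw [cb']
      _ = δ a * (δ b * (δ a)⁻¹) * (δ b)⁻¹ * (a * b * a⁻¹ * b⁻¹) := by group
      _ = δ a * ((δ a)⁻¹ * δ b) * (δ b)⁻¹ * (a * b * a⁻¹ * b⁻¹) := by rw [← ca' (δ b)]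
      _ = a * b * a⁻¹ * b⁻¹ := by group
  exact (mul_inv_eq_iff_eq_mul.mp e).symm

/-- A subgroup whose derived subgroup is scalar is solvable. -/
theorem isSolvable_of_commutator_le_scalars {M : Subgroup (GL ι F)} (h : ⁅M, M⁆ ≤ Cfsg.Geo.scalars ι F) :
    Group.IsSolvable M := by
  have h1 : ∀ a b : M, ((⁅a, b⁆ : M) : GL ι F) ∈ Cfsg.Geo.scalars ι F := fun a b =>
    h (Subgroup.commutator_mem_commutator a.2 b.2)
  have h2 : derivedSeries M 1 ≤ (Cfsg.Geo.scalars ι F).subgroupOf M := by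
    rw [derivedSeries_succ, derivedSeries_zero, Subgroup.commutator_le]
    exact fun a _ b _ => h1 a b
  refine ⟨⟨2, ?_⟩⟩
  rw [derivedSeries_succ, eq_bot_iff, Subgroup.commutator_le]
  intro a ha b _
  rw [Subgroup.mem_bot, commutatorElement_eq_one_iff_mul_comm]
  exact Subtype.ext (scalars_comm (h2 ha) (b : GL ι F))

section Quotient

variable {G : Type*} [Group G] {S P : Subgroup G}

theorem not_comm_quot [(S.subgroupOf P).Normal] (hperf : ⁅P, P⁆ = P) (hPs : ¬ P ≤ S) :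
    ¬ IsMulCommutative (P ⧸ S.subgroupOf P) := by
  intro hcomm
  apply hPs
  rw [← hperf, Subgroup.commutator_le]
  intro a ha b hb
  have h1 : ⁅(⟨a, ha⟩ : P), ⟨b, hb⟩⁆ ∈ (QuotientGroup.mk' (S.subgroupOf P)).ker := by
    rw [MonoidHom.mem_ker, map_commutatorElement, commutatorElement_eq_one_iff_mul_comm]
    exact hcomm.is_comm.comm _ _
  rw [QuotientGroup.ker_mk'] at h1
  exact h1

theorem isSimpleGroup_quot [(S.subgroupOf P).Normal] (hperf : ⁅P, P⁆ = P) (hPs : ¬ P ≤ S)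
    (h : ∀ M : Subgroup G, M ≤ P → (∀ p ∈ P, ∀ x ∈ M, p * x * p⁻¹ ∈ M) → ¬ M ≤ S → M = P) :
    IsSimpleGroup (P ⧸ S.subgroupOf P) := by
  haveI : Nontrivial (P ⧸ S.subgroupOf P) := by
    rcases subsingleton_or_nontrivial (P ⧸ S.subgroupOf P) with h | h
    · exact absurd ⟨⟨fun a b => Subsingleton.elim _ _⟩⟩ (not_comm_quot hperf hPs)
    · exact h
  refine ⟨fun K hK => ?_⟩
  have hker := QuotientGroup.ker_mk' (S.subgroupOf P)
  generalize hf : QuotientGroup.mk' (S.subgroupOf P) = f at hker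
  have hsurj : Function.Surjective f := hf ▸ QuotientGroup.mk'_surjective _
  by_cases hMs : (K.comap f).map P.subtype ≤ S
  · left
    rw [eq_bot_iff]
    intro y hy
    obtain ⟨x, rfl⟩ := hsurj y
    have hx : x ∈ S.subgroupOf P := hMs ⟨x, hy, rfl⟩
    rw [← hker] at hx
    exact Subgroup.mem_bot.mpr hx
  · right
    have hM : (K.comap f).map P.subtype = P := h _ (Subgroup.map_subtype_le _)
      (fun p hp x hx => by
        obtain ⟨y, hy, rfl⟩ := hx
        exact ⟨⟨p, hp⟩ * y * ⟨p, hp⟩⁻¹, (hK.comap f).conj_mem _ hy _, rfl⟩) hMs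
    rw [eq_top_iff]
    intro y _
    obtain ⟨x, rfl⟩ := hsurj y
    have hx : (x : G) ∈ (K.comap f).map P.subtype := by rw [hM]; exact x.2
    obtain ⟨z, hz, hzx⟩ := hx
    rw [← P.subtype_injective hzx]
    exact hz

end Quotient

variable [Finite F]

/-- The socle: an irreducible group of prime degree in which every abelian and every class two normal subgroup is
scalar has a core. -/
theorem exists_core (hn : (Fintype.card ι).Prime) {H : Subgroup (GL ι F)} (hH : Irr H)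
    (hab : ∀ A : Subgroup (GL ι F), A ≤ H → NormalisedBy H A → (∀ a ∈ A, ∀ b ∈ A, a * b = b * a) →
      A ≤ Cfsg.Geo.scalars ι F)
    (hcl : ∀ N : Subgroup (GL ι F), N ≤ H → NormalisedBy H N → ⁅N, N⁆ ≤ Cfsg.Geo.scalars ι F →
      N ≤ Cfsg.Geo.scalars ι F) :
    ∃ P, CoreData H P := by
  classical
  haveI : Nonempty ι := Fintype.card_pos_iff.mp hn.pos
  haveI : Finite (Matrix ι ι F) := Module.finite_of_finite F
  haveI : Finite (GL ι F) := Finite.of_injective _ Units.val_injective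
  haveI : Finite (Subgroup (GL ι F)) := Finite.of_injective _ SetLike.coe_injective
  set Sc := Cfsg.Geo.scalars ι F with hSc
  have hnc : ∀ N : Subgroup (GL ι F), N ≤ H → NormalisedBy H N → ¬ N ≤ Sc → AbsIrr N := fun N hNH hN hNs =>
    absIrr_of_nonabelian hn hH hN fun h => hNs (hab N hNH hN h)
  -- solvable normal subgroups are scalar
  have hsolv : ∀ N : Subgroup (GL ι F), N ≤ H → NormalisedBy H N → Group.IsSolvable N → N ≤ Sc := by
    intro N hNH hN hs
    induction hk : Nat.card N using Nat.strong_induction_on generalizing N with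
    | _ k ih =>
      refine hcl N hNH hN ?_
      rcases eq_or_ne N ⊥ with rfl | hbot
      · simp
      haveI : Nontrivial N := (Subgroup.nontrivial_iff_ne_bot N).mpr hbot
      haveI := hs
      have hlt : ⁅N, N⁆ < N := by
        have h1 := Group.IsSolvable.commutator_lt_top_of_nontrivial N
        refine lt_of_le_of_ne (Subgroup.commutator_le_self N) fun heq => h1.ne ?_
        apply Subgroup.map_injective N.subtype_injective
        rw [commutator_def, Subgroup.map_commutator, ← MonoidHom.range_eq_map, Subgroup.range_subtype, heq]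
      have hcard : Nat.card (⁅N, N⁆ : Subgroup (GL ι F)) < k := hk ▸ Set.Finite.card_lt_card (Set.toFinite _) hlt
      exact ih _ hcard _ (hlt.le.trans hNH) hN.comm_self (ThreeTransp.isSolvable_mono hlt.le hs) rfl
  -- a minimal non-scalar normal subgroup
  have hHs : ¬ H ≤ Sc := by
    intro hle
    have hinv : Inv H (Submodule.span F {(Pi.single (Classical.arbitrary ι) 1 : ι → F)}) := by
      intro h hh w hw
      obtain ⟨c, hc⟩ := (Cfsg.Geo.mem_scalars_iff h).mp (hle hh)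
      rw [hc, Matrix.smul_mulVec, one_mulVec]
      exact Submodule.smul_mem _ _ hw
    have hne : (Pi.single (Classical.arbitrary ι) 1 : ι → F) ≠ 0 := by simp
    rcases (irr_iff H).mp hH _ hinv with h | h
    · exact hne (by simpa using h)
    · have h1 := congrArg (fun U : Submodule F (ι → F) => Module.finrank F U) h
      rw [finrank_span_singleton hne, finrank_top, Module.finrank_pi] at h1
      exact hn.one_lt.ne h1
  obtain ⟨P, hP⟩ := (Set.toFinite {P : Subgroup (GL ι F) | P ≤ H ∧ NormalisedBy H P ∧ ¬ P ≤ Sc}).exists_minimal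
    ⟨H, le_rfl, fun h hh x hx => H.mul_mem (H.mul_mem hh hx) (H.inv_mem hh), hHs⟩
  obtain ⟨hPH, hPn, hPs⟩ := hP.prop
  have hperf : ⁅P, P⁆ = P := by
    by_contra hne
    have hle : ⁅P, P⁆ ≤ P := Subgroup.commutator_le_self P
    by_cases hs : ⁅P, P⁆ ≤ Sc
    · exact hPs (hcl P hPH hPn hs)
    · exact hne (le_antisymm hle (hP.le_of_le ⟨hle.trans hPH, hPn.comm_self, hs⟩ hle))
  have hPabs : AbsIrr P := hnc P hPH hPn hPs
  -- solvable subgroups normal in the socle are scalar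
  have hrad : ∀ M : Subgroup (GL ι F), M ≤ P → NormalisedBy P M → Group.IsSolvable M → M ≤ Sc := by
    intro M hMP hM hs
    obtain ⟨R, hR⟩ := (Set.toFinite {R : Subgroup (GL ι F) | R ≤ P ∧ NormalisedBy P R ∧ Group.IsSolvable R}).exists_maximal
      ⟨M, hMP, hM, hs⟩
    obtain ⟨hRP, hRn, hRs⟩ := hR.prop
    have habsorb : ∀ A : Subgroup (GL ι F), A ≤ P → NormalisedBy P A → Group.IsSolvable A → A ≤ R := by
      intro A hA hAn hAs
      refine le_sup_left.trans (hR.le_of_ge ⟨sup_le hA hRP, hAn.sup hRn,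
        ThreeTransp.isSolvable_sup_of_le_normalizer hAs hRs (hA.trans (le_normalizer_of hRn))⟩ le_sup_right)
    have hRH : NormalisedBy H R := by
      intro h hh x hx
      refine habsorb (R.map (MulAut.conj h).toMonoidHom) ?_ (hRn.map_conj fun y hy => hPn.inv_mem hh hy) ?_
        ⟨x, hx, rfl⟩
      · rintro _ ⟨y, hy, rfl⟩
        exact hPn h hh y (hRP hy)
      · haveI := hRs
        exact Group.isSolvable_of_surjective (f := (R.equivMapOfInjective _ (MulAut.conj h).injective).toMonoidHom)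
          (R.equivMapOfInjective _ (MulAut.conj h).injective).surjective
    exact (habsorb M hMP hM hs).trans (hsolv R (hRP.trans hPH) hRH hRs)
  -- the socle is simple modulo scalars
  have hsimple : ∀ M : Subgroup (GL ι F), M ≤ P → NormalisedBy P M → ¬ M ≤ Sc → M = P := by
    intro M₀ hM₀P hM₀n hM₀s
    obtain ⟨M, hM⟩ := (Set.toFinite {M : Subgroup (GL ι F) | M ≤ M₀ ∧ NormalisedBy P M ∧ ¬ M ≤ Sc}).exists_minimal
      ⟨M₀, le_rfl, hM₀n, hM₀s⟩
    obtain ⟨hMM₀, hMn, hMs⟩ := hM.prop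
    suffices M = P from le_antisymm hM₀P (this ▸ hMM₀)
    have hMP : M ≤ P := hMM₀.trans hM₀P
    have hMperf : ⁅M, M⁆ = M := by
      have hle : ⁅M, M⁆ ≤ M := Subgroup.commutator_le_self M
      refine le_antisymm hle (hM.le_of_le ⟨hle.trans hMM₀, hMn.comm_self, fun hs => hMs (hrad M hMP hMn ?_)⟩ hle)
      exact isSolvable_of_commutator_le_scalars hs
    have hMabs : AbsIrr M := absIrr_of_nonabelian hn hPabs.1 hMn fun hc => hMs (by
      have h0 : ⁅M, M⁆ = ⊥ := by
        rw [eq_bot_iff, Subgroup.commutator_le]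
        intro a ha b hb
        rw [Subgroup.mem_bot, commutatorElement_def, hc a ha b hb]
        group
      rw [← hMperf, h0]; exact bot_le)
    have hMH : NormalisedBy H M := by
      intro h hh x hx
      set M' := M.map (MulAut.conj h).toMonoidHom with hM'
      have hM'P : M' ≤ P := by
        rintro _ ⟨y, hy, rfl⟩
        exact hPn h hh y (hMP hy)
      have hM'n : NormalisedBy P M' := hMn.map_conj fun y hy => hPn.inv_mem hh hy
      by_contra hxM
      have hinf : M ⊓ M' ≤ Sc := by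
        by_contra hs
        have h1 : M ≤ M ⊓ M' := hM.le_of_le ⟨inf_le_left.trans hMM₀,
          fun p hp y hy => ⟨hMn p hp y hy.1, hM'n p hp y hy.2⟩, hs⟩ inf_le_left
        have heq : M = M' := by
          have h2 : (M : Set (GL ι F)) ⊆ (M' : Set (GL ι F)) := fun y hy => (h1 hy).2
          refine SetLike.coe_injective (Set.eq_of_subset_of_ncard_le h2 ?_ (Set.toFinite _))
          rw [Subgroup.coe_map]
          exact Set.ncard_image_le (Set.toFinite _)
        exact hxM (heq ▸ ⟨x, hx, rfl⟩)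
      have hsc : M' ≤ Sc := fun y hy => hMabs.mem_scalars fun z hz => comm_of_comm_mod_scalars hMperf
        (fun u hu => hinf ⟨M.mul_mem (hMn y (hM'P hy) u hu) (M.inv_mem hu), by
          rw [show y * u * y⁻¹ * u⁻¹ = y * (u * y⁻¹ * u⁻¹) by group]
          exact M'.mul_mem hy (hM'n u (hMP hu) _ (M'.inv_mem hy))⟩) z hz
      apply hMs
      intro y hy
      obtain ⟨c, hc⟩ := hsc ⟨y, hy, rfl⟩
      have e : h * y * h⁻¹ = h * (h⁻¹ * (Units.map (Matrix.scalar ι : F →+* Matrix ι ι F).toMonoidHom c) * h) * h⁻¹ := by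
        rw [show h * (h⁻¹ * (Units.map (Matrix.scalar ι : F →+* Matrix ι ι F).toMonoidHom c) * h) * h⁻¹ =
          Units.map (Matrix.scalar ι : F →+* Matrix ι ι F).toMonoidHom c by group]
        exact hc.symm
      rw [mul_left_cancel (mul_right_cancel e), mul_assoc, scalars_comm ⟨c, rfl⟩, inv_mul_cancel_left]
      exact ⟨c, rfl⟩
    exact le_antisymm hMP (hP.le_of_le ⟨hMP.trans hPH, hMH, hMs⟩ hMP)
  have hcentral : ∀ h ∈ H, (∀ x ∈ P, h * x * h⁻¹ * x⁻¹ ∈ Sc) → h ∈ Sc := fun h _ hc =>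
    hPabs.mem_scalars (comm_of_comm_mod_scalars hperf hc)
  exact ⟨P, hPH, hPn, hperf, isSimpleGroup_quot hperf hPs (fun M hM hMn => hsimple M hM hMn),
    not_comm_quot hperf hPs, hcentral, hPabs⟩

/-- The case division. -/
theorem cases_prime (hn : (Fintype.card ι).Prime) (hodd : Odd (Fintype.card ι)) {H : Subgroup (GL ι F)}
    (hH : Irr H) (hHdet : H ≤ Cfsg.Geo.specialLinear ι F) :
    (∃ (A : Subgroup (GL ι F)) (D : Fin (Fintype.card ι) → Submodule F (ι → F)),
      A ≤ H ∧ NormalisedBy H A ∧ ¬ A ≤ Cfsg.Geo.scalars ι F ∧ Cfsg.Geo.IsMDecomposition 1 D ∧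
      H ≤ Cfsg.Geo.decompositionStabilizer D ∧
      ∃ χ : Fin (Fintype.card ι) → A → F, ∀ i (x : A), ∀ v ∈ D i,
        ((x : GL ι F) : Matrix ι ι F) *ᵥ v = χ i x • v) ∨
    (∃ A : Subgroup (GL ι F), A ≤ H ∧ NormalisedBy H A ∧ ¬ A ≤ Cfsg.Geo.scalars ι F ∧
      Cfsg.Geo.IsFieldSubalgebra (Fintype.card ι) (cent A) ∧
      H ≤ Cfsg.Geo.subalgebraNormalizer (cent A)) ∨
    (∃ R, ExtraData H R) ∨ (∃ P, CoreData H P) := by
  haveI : Nonempty ι := Fintype.card_pos_iff.mp hn.pos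
  by_cases hA : ∃ A : Subgroup (GL ι F), A ≤ H ∧ NormalisedBy H A ∧ (∀ a ∈ A, ∀ b ∈ A, a * b = b * a) ∧
      ¬ A ≤ Cfsg.Geo.scalars ι F
  · obtain ⟨A, hAH, hAn, hAc, hAs⟩ := hA
    rcases clifford hn hH hAn with h | h | ⟨D, hD, hst, -, hχ⟩
    · exact absurd h hAs
    · refine Or.inr (Or.inl ⟨A, hAH, hAn, hAs, isFieldSubalgebra_cent hn h fun hab => ?_,
        le_subalgebraNormalizer_cent hAn⟩)
      exact hAs fun a ha => hab.mem_scalars fun b hb => hAc a ha b hb
    · exact Or.inl ⟨A, D, hAH, hAn, hAs, hD, hst, hχ⟩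
  push Not at hA
  refine Or.inr (Or.inr ?_)
  by_cases hN : ∃ N : Subgroup (GL ι F), N ≤ H ∧ NormalisedBy H N ∧ ⁅N, N⁆ ≤ Cfsg.Geo.scalars ι F ∧
      ¬ N ≤ Cfsg.Geo.scalars ι F
  · obtain ⟨N, hNH, hNn, hN2, hNs⟩ := hN
    exact Or.inl ⟨_, extraData hn hodd hH hHdet hA hNH hNn hNs hN2⟩
  push Not at hN
  exact Or.inr (exists_core hn hH hA hN)

end CfsgLib.Techniques.AschPrime
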