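/-
Descent to subfields and uniqueness of invariant sesquilinear forms for absolutely irreducible subgroups.
-/
import Cfsg.Agent.Lib.Techniques.AschPrime.Basic

set_option autoImplicit false

namespace CfsgLib.Techniques.AschPrime

open Matrix
open scoped MatrixGroups

variable {ι : Type} [Fintype ι] [DecidableEq ι] {F : Type*} [Field F]

/-- Apply an `F₀`-linear map entrywise: products with matrices over `F₀` are respected. -/
theorem map_mul_left_rat {F₀ : Subfield F} (l : F →ₗ[F₀] F₀) {A C : Matrix ι ι F} (hA : ∀ i j, A i j ∈ F₀) :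
    (A * C).map (fun x => (l x : F)) = A * C.map (fun x => (l x : F)) := by
  refine Matrix.ext fun i j => ?_
  simp only [Matrix.map_apply, Matrix.mul_apply, map_sum, AddSubmonoidClass.coe_finsetSum]
  refine Finset.sum_congr rfl fun k _ => ?_
  have e : A i k * C k j = (⟨A i k, hA i k⟩ : F₀) • C k j := rfl
  rw [e, map_smul]
  rfl

theorem map_mul_right_rat {F₀ : Subfield F} (l : F →ₗ[F₀] F₀) {A C : Matrix ι ι F} (hA : ∀ i j, A i j ∈ F₀) :
    (C * A).map (fun x => (l x : F)) = C.map (fun x => (l x : F)) * A := by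
  refine Matrix.ext fun i j => ?_
  simp only [Matrix.map_apply, Matrix.mul_apply, map_sum, AddSubmonoidClass.coe_finsetSum]
  refine Finset.sum_congr rfl fun k _ => ?_
  have e : C i k * A k j = (⟨A k j, hA k j⟩ : F₀) • C i k := mul_comm _ _
  rw [e, map_smul]
  exact mul_comm _ _

/-- The key descent step: an intertwiner of two sets of matrices over `F₀` that is unique up to scalars is a scalar
multiple of a matrix over `F₀`. -/
theorem exists_rat_intertwiner {F₀ : Subfield F} {J : Type*} {A A' : J → Matrix ι ι F}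
    (hA : ∀ k i j, A k i j ∈ F₀) (hA' : ∀ k i j, A' k i j ∈ F₀) {C : Matrix ι ι F} (hC : C ≠ 0)
    (hint : ∀ k, C * A k = A' k * C)
    (huniq : ∀ D : Matrix ι ι F, (∀ k, D * A k = A' k * D) → ∃ c : F, D = c • C) :
    ∃ (c : F) (D : Matrix ι ι F), c ≠ 0 ∧ (∀ i j, D i j ∈ F₀) ∧ C = c • D := by
  obtain ⟨i, j, hij⟩ : ∃ i j, C i j ≠ 0 := by
    by_contra h
    push Not at h
    exact hC (Matrix.ext h)
  let C₁ : Matrix ι ι F := (C i j)⁻¹ • C
  have h1 : C₁ i j = 1 := by simp [C₁, hij]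
  have hint1 : ∀ k, C₁ * A k = A' k * C₁ := fun k => by simp [C₁, hint k]
  obtain ⟨l, hl⟩ := (LinearMap.toSpanSingleton F₀ F 1).exists_leftInverse_of_injective
    (LinearMap.ker_toSpanSingleton F₀ one_ne_zero)
  have hl1 : l (1 : F) = 1 := by
    have := LinearMap.congr_fun hl (1 : F₀)
    simpa using this
  let D : Matrix ι ι F := C₁.map (fun x => (l x : F))
  have hD : ∀ k, D * A k = A' k * D := fun k => by
    rw [← map_mul_right_rat l (hA k), hint1 k, map_mul_left_rat l (hA' k)]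
  obtain ⟨c, hc⟩ := huniq D hD
  have hDij : D i j = 1 := by simp [D, h1, hl1]
  have hcval : c = (C i j)⁻¹ := by
    have := congrFun (congrFun hc i) j
    rw [hDij, Matrix.smul_apply, smul_eq_mul] at this
    exact (eq_inv_of_mul_eq_one_left this.symm)
  refine ⟨C i j, D, hij, fun a b => (l (C₁ a b)).2, ?_⟩
  rw [hc, hcval, smul_smul, mul_inv_cancel₀ hij, one_smul]

/-- The normaliser of an absolutely irreducible subgroup written over a subfield lies in the subfield group. -/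
theorem mem_subfieldSubgroup_of_normalises [Nonempty ι] {F₀ : Subfield F} {S : Subgroup (GL ι F)} (hS : AbsIrr S)
    {B : GL ι F}
    (hB : ∀ s ∈ S, ∀ i j, ((B : Matrix ι ι F) * (s : Matrix ι ι F) * ((B⁻¹ : GL ι F) : Matrix ι ι F)) i j ∈ F₀)
    {g : GL ι F} (hg : ∀ s ∈ S, g * s * g⁻¹ ∈ S) : g ∈ Cfsg.Geo.subfieldSubgroup F₀ B⁻¹ := by
  let g' : GL ι F := B * g * B⁻¹
  have huniq : ∀ D : Matrix ι ι F,
      (∀ s : S, D * ((B * s * B⁻¹ : GL ι F) : Matrix ι ι F) = ((B * (g * s * g⁻¹) * B⁻¹ : GL ι F) : Matrix ι ι F) * D) →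
      ∃ c : F, D = c • (g' : Matrix ι ι F) := by
    intro D hD
    obtain ⟨c, hc⟩ := hS.scalar
      (M := ((B⁻¹ * g'⁻¹ : GL ι F) : Matrix ι ι F) * D * (B : Matrix ι ι F)) fun s hs => by
      have e : B * (g * s * g⁻¹) * B⁻¹ = g' * (B * s * B⁻¹) * g'⁻¹ := by simp only [g']; group
      have h := congrArg (fun X => ((B⁻¹ * g'⁻¹ : GL ι F) : Matrix ι ι F) * X * (B : Matrix ι ι F)) (hD ⟨s, hs⟩)
      simp only [e] at h
      simp only [Units.val_mul, mul_assoc, Units.inv_mul, mul_one, Units.inv_mul_cancel_left] at h ⊢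
      exact h
    refine ⟨c, ?_⟩
    have h := congrArg (fun X => ((g' * B : GL ι F) : Matrix ι ι F) * X * ((B⁻¹ : GL ι F) : Matrix ι ι F)) hc
    simpa [g', mul_assoc] using h
  obtain ⟨c, D, hc, hDrat, hD⟩ := exists_rat_intertwiner
    (A := fun s : S => ((B * s * B⁻¹ : GL ι F) : Matrix ι ι F))
    (A' := fun s : S => ((B * (g * s * g⁻¹) * B⁻¹ : GL ι F) : Matrix ι ι F))
    (fun s i j => by simpa only [Units.val_mul] using hB s s.2 i j)
    (fun s i j => by simpa only [Units.val_mul] using hB _ (hg s s.2) i j) (C := (g' : Matrix ι ι F))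
    (Units.ne_zero g') (fun s => by simp [g', mul_assoc]) huniq
  let M : Matrix ι ι F₀ := fun i j => ⟨D i j, hDrat i j⟩
  have hM : M.map (F₀.subtype : F₀ →+* F) = D := rfl
  have hdet : IsUnit M.det := by
    rw [isUnit_iff_ne_zero]
    intro h0
    have h1 : D.det = 0 := by
      rw [← hM, ← RingHom.mapMatrix_apply, ← RingHom.map_det, h0, map_zero]
    have h2 : (g' : Matrix ι ι F).det = 0 := by rw [hD, det_smul, h1, mul_zero]
    exact (Matrix.GeneralLinearGroup.det g').ne_zero h2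
  refine ⟨g', ?_, by simp [g', mul_assoc]⟩
  suffices he : Matrix.GeneralLinearGroup.map (F₀.subtype : F₀ →+* F) (Matrix.GeneralLinearGroup.mk'' M hdet) *
      Units.map (Matrix.scalar ι : F →+* Matrix ι ι F).toMonoidHom (Units.mk0 c hc) = g' by
    exact he ▸ Subgroup.mul_mem_sup ⟨_, rfl⟩ ⟨_, rfl⟩
  refine Units.ext ?_
  rw [Units.val_mul, hD]
  have e : ((Matrix.GeneralLinearGroup.map (F₀.subtype : F₀ →+* F)
    (Matrix.GeneralLinearGroup.mk'' M hdet) : GL ι F) : Matrix ι ι F) = D := by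
    rw [← hM]; rfl
  rw [e]
  simp [← Matrix.smul_one_eq_diagonal]

/-- A two-argument form linear in the first and `σ`-semilinear in the second argument. -/
structure IsSesq (σ : F ≃+* F) (f : (ι → F) → (ι → F) → F) : Prop where
  add_left : ∀ x y v, f (x + y) v = f x v + f y v
  smul_left : ∀ (c : F) (x v : ι → F), f (c • x) v = c * f x v
  add_right : ∀ v x y, f v (x + y) = f v x + f v y
  smul_right : ∀ (c : F) (v x : ι → F), f v (c • x) = σ c * f v x

theorem IsSesq.of_bilinear {f : (ι → F) → (ι → F) → F} (hf : Cfsg.Geo.IsBilinearForm f) :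
    IsSesq (RingEquiv.refl F) f :=
  ⟨hf.add_left, hf.smul_left, hf.add_right, fun c v x => hf.smul_right c v x⟩

theorem IsSesq.of_unitary {σ : F ≃+* F} {f : (ι → F) → (ι → F) → F} (hf : Cfsg.Geo.IsUnitaryForm σ f) :
    IsSesq σ f :=
  ⟨hf.add_left, hf.smul_left, fun v x y => by rw [hf.herm, hf.add_left, map_add, ← hf.herm, ← hf.herm],
    fun c v x => by rw [hf.herm, hf.smul_left, map_mul, ← hf.herm]⟩

theorem IsSesq.eq_gram {σ : F ≃+* F} {f : (ι → F) → (ι → F) → F} (hf : IsSesq σ f) (u v : ι → F) :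
    f u v = u ⬝ᵥ (Cfsg.Geo.gramMatrix f *ᵥ (σ ∘ v)) := by
  let φ : (ι → F) → (ι → F) →+ F := fun v => AddMonoidHom.mk' (fun u => f u v) fun a b => hf.add_left a b v
  let ψ : (ι → F) → (ι → F) →+ F := fun u => AddMonoidHom.mk' (fun v => f u v) fun a b => hf.add_right u a b
  have e1 : f u v = ∑ a, u a * f (Pi.single a 1) v := by
    change φ v u = _
    conv_lhs => rw [pi_eq_sum_univ u]
    rw [map_sum]
    refine Finset.sum_congr rfl fun a _ => ?_
    change f (u a • _) v = _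
    rw [hf.smul_left]
    congr 2
    funext b
    simp [Pi.single_apply, eq_comm]
  have e2 : ∀ a, f (Pi.single a 1) v = ∑ b, f (Pi.single a 1) (Pi.single b 1) * σ (v b) := fun a => by
    change ψ _ v = _
    conv_lhs => rw [pi_eq_sum_univ v]
    rw [map_sum]
    refine Finset.sum_congr rfl fun b _ => ?_
    change f _ (v b • _) = _
    rw [hf.smul_right, mul_comm]
    congr 2
    funext c
    simp [Pi.single_apply, eq_comm]
  rw [e1]
  simp only [dotProduct, mulVec, Cfsg.Geo.gramMatrix, Function.comp_apply, e2]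

theorem IsSesq.gram_det_ne_zero {σ : F ≃+* F} {f : (ι → F) → (ι → F) → F} (hf : IsSesq σ f)
    (hnd : Cfsg.Geo.IsNondegenerateForm f) : (Cfsg.Geo.gramMatrix f).det ≠ 0 := by
  intro h0
  obtain ⟨x, hx0, hx⟩ := Matrix.exists_mulVec_eq_zero_iff.mpr h0
  have hv : (σ.symm ∘ x : ι → F) ≠ 0 := fun h => hx0 (funext fun i => by
    have := congrFun h i
    simpa using this)
  obtain ⟨⟨u, hu⟩, -⟩ := hnd _ hv
  apply hu
  rw [hf.eq_gram, show σ ∘ σ.symm ∘ x = x by funext i; simp, hx, dotProduct_zero]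

theorem IsSesq.gram_comp {σ : F ≃+* F} {f : (ι → F) → (ι → F) → F} (hf : IsSesq σ f) (g : Matrix ι ι F) :
    Cfsg.Geo.gramMatrix (fun u v => f (g *ᵥ u) (g *ᵥ v)) =
      gᵀ * Cfsg.Geo.gramMatrix f * g.map σ := by
  refine Matrix.ext fun a b => ?_
  change f (g *ᵥ Pi.single a 1) (g *ᵥ Pi.single b 1) = _
  rw [hf.eq_gram, Matrix.mul_apply']
  simp only [mulVec_single, MulOpposite.op_one, one_smul]
  rw [dotProduct_mulVec]
  rfl

/-- Invariant forms of an absolutely irreducible subgroup are proportional. -/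
theorem exists_form_multiplier {σ : F ≃+* F} {f : (ι → F) → (ι → F) → F} (hf : IsSesq σ f)
    (hnd : Cfsg.Geo.IsNondegenerateForm f) {S : Subgroup (GL ι F)} (hS : AbsIrr S)
    (hfix : Cfsg.Geo.FixesForm (Cfsg.Geo.matrixSet S) f) {g : GL ι F} (hg : ∀ s ∈ S, g * s * g⁻¹ ∈ S) :
    ∃ c : Fˣ, ∀ u v, f ((g : Matrix ι ι F) *ᵥ u) ((g : Matrix ι ι F) *ᵥ v) = (c : F) * f u v := by
  classical
  set G := Cfsg.Geo.gramMatrix f with hG
  set M : Matrix ι ι F := (g : Matrix ι ι F)ᵀ * G * (g : Matrix ι ι F).map σ with hM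
  have hdet := hf.gram_det_ne_zero hnd
  have hGu : IsUnit G.det := isUnit_iff_ne_zero.mpr hdet
  have hinv : ∀ s ∈ S, (s : Matrix ι ι F)ᵀ * G * (s : Matrix ι ι F).map σ = G := fun s hs => by
    rw [hG, ← hf.gram_comp]
    exact congrArg Cfsg.Geo.gramMatrix (funext fun u => funext fun v => hfix _ ⟨s, hs, rfl⟩ u v)
  have hinvM : ∀ s ∈ S, (s : Matrix ι ι F)ᵀ * M * (s : Matrix ι ι F).map σ = M := fun s hs => by
    have h1 := hinv _ (hg s hs)
    have e : ((g * s * g⁻¹ : GL ι F) : Matrix ι ι F) * (g : Matrix ι ι F) = (g : Matrix ι ι F) * (s : Matrix ι ι F) := by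
      rw [← Units.val_mul, inv_mul_cancel_right, Units.val_mul]
    calc (s : Matrix ι ι F)ᵀ * M * (s : Matrix ι ι F).map σ
        = ((g : Matrix ι ι F) * (s : Matrix ι ι F))ᵀ * G * ((g : Matrix ι ι F) * (s : Matrix ι ι F)).map σ := by
          rw [hM, Matrix.transpose_mul, Matrix.map_mul]; simp only [mul_assoc]
      _ = (g : Matrix ι ι F)ᵀ * (((g * s * g⁻¹ : GL ι F) : Matrix ι ι F)ᵀ * G *
            ((g * s * g⁻¹ : GL ι F) : Matrix ι ι F).map σ) * (g : Matrix ι ι F).map σ := by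
          rw [← e, Matrix.transpose_mul, Matrix.map_mul]; simp only [mul_assoc]
      _ = M := by rw [h1, hM]
  clear_value M
  obtain ⟨c, hc⟩ := hS.scalar (M := (M * G⁻¹)ᵀ) fun s hs => by
    have hσ : ((s : Matrix ι ι F).map σ) * (((s⁻¹ : GL ι F) : Matrix ι ι F).map σ) = 1 := by
      rw [← Matrix.map_mul, ← Units.val_mul, mul_inv_cancel, Units.val_one,
        Matrix.map_one _ (map_zero σ) (map_one σ)]
    have hG' : (s : Matrix ι ι F)ᵀ * G = G * (((s⁻¹ : GL ι F) : Matrix ι ι F).map σ) := by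
      conv_rhs => rw [← hinv s hs]
      rw [mul_assoc ((s : Matrix ι ι F)ᵀ * G), hσ, mul_one]
    have hM' : (s : Matrix ι ι F)ᵀ * M = M * (((s⁻¹ : GL ι F) : Matrix ι ι F).map σ) := by
      conv_rhs => rw [← hinvM s hs]
      rw [mul_assoc ((s : Matrix ι ι F)ᵀ * M), hσ, mul_one]
    have hkey : (s : Matrix ι ι F)ᵀ * (M * G⁻¹) = (M * G⁻¹) * (s : Matrix ι ι F)ᵀ := by
      rw [← mul_assoc, hM', mul_assoc, mul_assoc]
      congr 1
      calc ((s⁻¹ : GL ι F) : Matrix ι ι F).map σ * G⁻¹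
          = G⁻¹ * (G * ((s⁻¹ : GL ι F) : Matrix ι ι F).map σ) * G⁻¹ := by
            rw [← mul_assoc G⁻¹, nonsing_inv_mul G hGu, one_mul]
        _ = G⁻¹ * (s : Matrix ι ι F)ᵀ := by
            rw [← hG', mul_assoc, mul_assoc, mul_nonsing_inv G hGu, mul_one]
    have := congrArg Matrix.transpose hkey
    simpa [Matrix.transpose_mul] using this
  have hMG : M = c • G := by
    have h := congrArg (fun X => Xᵀ * G) hc
    simpa [mul_assoc, nonsing_inv_mul G hGu] using h
  have hg' : IsSesq σ fun u v => f ((g : Matrix ι ι F) *ᵥ u) ((g : Matrix ι ι F) *ᵥ v) :=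
    ⟨fun x y v => by simp only [mulVec_add, hf.add_left],
     fun a x v => by simp only [mulVec_smul, hf.smul_left],
     fun v x y => by simp only [mulVec_add, hf.add_right],
     fun a v x => by simp only [mulVec_smul, hf.smul_right]⟩
  have hall : ∀ u v, f ((g : Matrix ι ι F) *ᵥ u) ((g : Matrix ι ι F) *ᵥ v) = c * f u v := fun u v => by
    rw [hg'.eq_gram u v, hf.gram_comp, ← hG, ← hM, hMG, smul_mulVec, dotProduct_smul, hf.eq_gram u v, ← hG,
      smul_eq_mul]
  rcases isEmpty_or_nonempty ι with hι | hι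
  · refine ⟨1, fun u v => ?_⟩
    rw [Subsingleton.elim ((g : Matrix ι ι F) *ᵥ u) u, Subsingleton.elim ((g : Matrix ι ι F) *ᵥ v) v,
      Units.val_one, one_mul]
  have hc0 : c ≠ 0 := by
    intro h0
    have h1 : M.det = 0 := by rw [hMG, h0, zero_smul, det_zero]
    rw [hM, det_mul, det_mul, det_transpose,
      show ((g : Matrix ι ι F).map σ).det = σ (g : Matrix ι ι F).det from (σ.toRingHom.map_det _).symm] at h1
    simp [(Matrix.GeneralLinearGroup.det g).ne_zero, ← Matrix.GeneralLinearGroup.val_det_apply] at h1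
    exact hdet (hG ▸ h1)
  exact ⟨Units.mk0 c hc0, hall⟩

end CfsgLib.Techniques.AschPrime
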