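/-
Forms fixed by absolutely irreducible normal subgroups; the special linear group is not inside the members.
-/
import Cfsg.Agent.Lib.Techniques.AschPrime.Descent
import Cfsg.Agent.Lib.Transvec.Linear
import Cfsg.Agent.Lib.KnownSimple.Forms.Classify

set_option autoImplicit false

namespace CfsgLib.Techniques.AschPrime

open Matrix CfsgLib.Transvec
open scoped MatrixGroups

variable {ι : Type} [Fintype ι] [DecidableEq ι] {F : Type*} [Field F]

theorem le_similarityGroup {σ : F ≃+* F} {f : (ι → F) → (ι → F) → F} (hf : IsSesq σ f)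
    (hnd : Cfsg.Geo.IsNondegenerateForm f) {H S : Subgroup (GL ι F)} (hS : AbsIrr S)
    (hN : ∀ h ∈ H, ∀ x ∈ S, h * x * h⁻¹ ∈ S) (hfix : Cfsg.Geo.FixesForm (Cfsg.Geo.matrixSet S) f) :
    H ≤ Cfsg.Geo.similarityGroup f := fun h hh => exists_form_multiplier hf hnd hS hfix (hN h hh)

theorem polar_eq (Q : (ι → F) → F) (u v : ι → F) : QuadraticMap.polar Q u v = Q (u + v) - Q u - Q v := rfl

omit [Fintype ι] [DecidableEq ι] in
theorem polar_self {Q : (ι → F) → F} (hQ : Cfsg.Geo.IsNondegenerateQuadraticForm Q) (v : ι → F) :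
    QuadraticMap.polar Q v v = 2 * Q v := by
  rw [QuadraticMap.polar, ← two_smul F v, hQ.smul]
  ring

theorem quadSimilarity_le (Q : (ι → F) → F) :
    Cfsg.Geo.quadSimilarityGroup Q ≤ Cfsg.Geo.similarityGroup (QuadraticMap.polar Q) := by
  rintro g ⟨c, hc⟩
  refine ⟨c, fun u v => ?_⟩
  simp only [QuadraticMap.polar, ← mulVec_add, hc]
  ring

theorem le_quadSimilarityGroup {Q : (ι → F) → F} (hQ : Cfsg.Geo.IsNondegenerateQuadraticForm Q)
    (h2 : (2 : F) ≠ 0) {H S : Subgroup (GL ι F)} (hS : AbsIrr S) (hN : ∀ h ∈ H, ∀ x ∈ S, h * x * h⁻¹ ∈ S)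
    (hfix : Cfsg.Geo.FixesQuadForm (Cfsg.Geo.matrixSet S) Q) : H ≤ Cfsg.Geo.quadSimilarityGroup Q := by
  intro h hh
  obtain ⟨c, hc⟩ := exists_form_multiplier (IsSesq.of_bilinear hQ.polar_bilinear) hQ.nondegenerate hS
    (fun s hs u v => by simp only [QuadraticMap.polar, ← mulVec_add, hfix s hs]) (hN h hh)
  refine ⟨c, fun v => mul_left_cancel₀ h2 ?_⟩
  rw [← polar_self hQ, hc, polar_self hQ]
  ring

/-- No alternating bilinear non-degenerate form in odd dimension. -/
theorem not_alternating_of_odd (hodd : Odd (Fintype.card ι)) {f : (ι → F) → (ι → F) → F}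
    (hb : Cfsg.Geo.IsBilinearForm f) (halt : ∀ v, f v v = 0) (hskew : ∀ v w, f v w = - f w v)
    (hnd : Cfsg.Geo.IsNondegenerateForm f) : False := by
  obtain ⟨m, hm, -⟩ := CfsgLib.Forms.exists_congr_J (A := Cfsg.Geo.gramMatrix f)
    ⟨Matrix.ext fun a b => hskew _ _, fun a => halt _⟩ ((IsSesq.of_bilinear hb).gram_det_ne_zero hnd)
  obtain ⟨k, hk⟩ := hodd
  omega

theorem not_symplectic_of_odd (hodd : Odd (Fintype.card ι)) {f : (ι → F) → (ι → F) → F}
    (hf : Cfsg.Geo.IsSymplecticForm f) : False :=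
  not_alternating_of_odd hodd hf.bilinear hf.alternating hf.skew hf.nondegenerate

theorem two_ne_zero_of_quad (hodd : Odd (Fintype.card ι)) {Q : (ι → F) → F}
    (hQ : Cfsg.Geo.IsNondegenerateQuadraticForm Q) : (2 : F) ≠ 0 := by
  intro h2
  refine not_alternating_of_odd hodd hQ.polar_bilinear (fun v => by rw [polar_self hQ, h2, zero_mul]) (fun v w => ?_)
    hQ.nondegenerate
  rw [QuadraticMap.polar_comm Q v w, eq_neg_iff_add_eq_zero, ← two_mul, h2, zero_mul]

/-- The special linear group is not contained in a similarity group. -/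
theorem not_specialLinear_le_similarity (h3 : 3 ≤ Fintype.card ι) {σ : F ≃+* F} {f : (ι → F) → (ι → F) → F}
    (hf : IsSesq σ f) (hnd : Cfsg.Geo.IsNondegenerateForm f) :
    ¬ Cfsg.Geo.specialLinear ι F ≤ Cfsg.Geo.similarityGroup f := by
  intro hle
  have key : ∀ u φ : ι → F, φ ⬝ᵥ u = 0 → φ ≠ 0 → ∀ y, φ ⬝ᵥ y = 0 → f u y = 0 := by
    intro u φ hφu hφ0 y hy
    obtain ⟨c, hc⟩ := hle (transv_mem_specialLinear u φ)
    obtain ⟨w, hw⟩ : ∃ w, φ ⬝ᵥ w = 1 := by
      obtain ⟨i, hi⟩ := Function.ne_iff.mp hφ0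
      exact ⟨Pi.single i (φ i)⁻¹, by rw [dotProduct_single, mul_inv_cancel₀ hi]⟩
    have hc1 : (c : F) = 1 := by
      by_contra hne
      have hzero : ∀ x z, φ ⬝ᵥ x = 0 → φ ⬝ᵥ z = 0 → f x z = 0 := fun x z hx hz => by
        have h1 := hc x z
        rw [transv_mulVec hφu, transv_mulVec hφu, hx, hz, zero_smul, add_zero, add_zero] at h1
        exact (mul_left_eq_self₀.mp h1.symm).resolve_left hne
      let L : (ι → F) →ₗ[F] F × F :=
        { toFun := fun x => (φ ⬝ᵥ x, f x w)
          map_add' := fun a b => by simp [dotProduct_add, hf.add_left]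
          map_smul' := fun a b => by simp [dotProduct_smul, hf.smul_left] }
      obtain ⟨x, hx, hx0⟩ := Submodule.exists_mem_ne_zero_of_ne_bot
        (LinearMap.ker_ne_bot_of_finrank_lt (f := L) (by simp [Module.finrank_prod, Module.finrank_pi]; omega))
      rw [LinearMap.mem_ker, Prod.ext_iff] at hx
      obtain ⟨-, z, hz⟩ := hnd x hx0
      apply hz
      have e : z = (φ ⬝ᵥ z) • w + (z - (φ ⬝ᵥ z) • w) := by abel
      have hx2 : f x w = 0 := hx.2
      rw [e, hf.add_right, hf.smul_right, hx2, mul_zero, zero_add]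
      exact hzero x _ hx.1 (by rw [dotProduct_sub, dotProduct_smul, hw, smul_eq_mul, mul_one, sub_self])
    have h1 := hc w y
    rw [transv_mulVec hφu, transv_mulVec hφu, hw, hy, zero_smul, add_zero, one_smul, hf.add_left, hc1, one_mul,
      add_eq_left] at h1
    exact h1
  haveI : Nonempty ι := Fintype.card_pos_iff.mp (by omega)
  have hu : (Pi.single (Classical.arbitrary ι) 1 : ι → F) ≠ 0 := by simp
  set u : ι → F := Pi.single (Classical.arbitrary ι) 1 with hudef
  obtain ⟨-, y, hy⟩ := hnd u hu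
  let L : (ι → F) →ₗ[F] F × F :=
    { toFun := fun φ => (φ ⬝ᵥ u, φ ⬝ᵥ y)
      map_add' := fun a b => by simp [add_dotProduct]
      map_smul' := fun a b => by simp [smul_dotProduct] }
  obtain ⟨φ, hφ, hφ0⟩ := Submodule.exists_mem_ne_zero_of_ne_bot
    (LinearMap.ker_ne_bot_of_finrank_lt (f := L) (by simp [Module.finrank_prod, Module.finrank_pi]; omega))
  rw [LinearMap.mem_ker, Prod.ext_iff] at hφ
  exact hy (key u φ hφ.1 hφ0 y hφ.2)

/-- The special linear group does not normalise a field of matrices other than the scalars. -/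
theorem not_specialLinear_le_subalgebraNormalizer (h3 : 3 ≤ Fintype.card ι)
    {K : Subalgebra F (Matrix ι ι F)} {r : ℕ} (hK : Cfsg.Geo.IsFieldSubalgebra r K) (hr : 1 < r) :
    ¬ Cfsg.Geo.specialLinear ι F ≤ Cfsg.Geo.subalgebraNormalizer K := by
  intro hle
  haveI : Nonempty ι := Fintype.card_pos_iff.mp (by omega)
  have hscal : ∀ k ∈ K, ∀ u : ι → F, ∃ a : F, k *ᵥ u = a • u := by
    intro k hk u
    by_cases hu : u = 0
    · exact ⟨0, by simp [hu]⟩
    by_contra hno
    push Not at hno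
    obtain ⟨φ, hφ, hφk⟩ := exists_functional (E := Submodule.span F {u}) (u := k *ᵥ u) (fun h => by
      obtain ⟨a, ha⟩ := Submodule.mem_span_singleton.mp h
      exact hno a ha.symm)
    have hφu := hφ u (Submodule.mem_span_singleton_self u)
    set t := transv u φ with ht
    have hd : (t : Matrix ι ι F) * k * ((t⁻¹ : GL ι F) : Matrix ι ι F) - k ∈ K :=
      K.sub_mem ((hle (transv_mem_specialLinear u φ) k).mp hk) hk
    set D := (t : Matrix ι ι F) * k * ((t⁻¹ : GL ι F) : Matrix ι ι F) - k with hD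
    let L : (ι → F) →ₗ[F] F × F :=
      { toFun := fun v => (φ ⬝ᵥ v, φ ⬝ᵥ (k *ᵥ v))
        map_add' := fun a b => by simp [dotProduct_add, mulVec_add]
        map_smul' := fun a b => by simp [dotProduct_smul, mulVec_smul] }
    obtain ⟨v, hv, hv0⟩ := Submodule.exists_mem_ne_zero_of_ne_bot
      (LinearMap.ker_ne_bot_of_finrank_lt (f := L) (by simp [Module.finrank_prod, Module.finrank_pi]; omega))
    rw [LinearMap.mem_ker, Prod.ext_iff] at hv
    have hv1 : φ ⬝ᵥ v = 0 := hv.1
    have hv2 : φ ⬝ᵥ (k *ᵥ v) = 0 := hv.2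
    have htv : ((t⁻¹ : GL ι F) : Matrix ι ι F) *ᵥ v = v := by
      rw [ht, transv_inv hφu, transv_mulVec (by rw [neg_dotProduct, hφu, neg_zero]), neg_dotProduct, hv1]
      simp
    have hDv : D *ᵥ v = 0 := by
      rw [hD, sub_mulVec, ← mulVec_mulVec, htv, ← mulVec_mulVec, ht, transv_mulVec hφu, hv2, zero_smul, add_zero,
        sub_self]
    have hD0 : D = 0 := by
      by_contra hne
      obtain ⟨y, hyK, hy⟩ := hK.inv D hd hne
      apply hv0
      rw [hK.comm D hd y hyK] at hy
      rw [← one_mulVec v, ← hy, ← mulVec_mulVec, hDv, mulVec_zero]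
    rw [hD, sub_eq_zero] at hD0
    have htu : ((t⁻¹ : GL ι F) : Matrix ι ι F) *ᵥ u = u := by
      rw [ht, transv_inv hφu, transv_mulVec (by rw [neg_dotProduct, hφu, neg_zero]), neg_dotProduct, hφu]
      simp
    have h1 := congrArg (· *ᵥ u) hD0
    simp only [← mulVec_mulVec] at h1
    rw [htu, ht, transv_mulVec hφu, hφk, one_smul, add_eq_left] at h1
    exact hu h1
  have hfin : Module.finrank F K ≤ 1 := by
    refine finrank_le_one (⟨1, K.one_mem⟩ : K) fun k => ?_
    set i0 := Classical.arbitrary ι with hi0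
    choose a ha using fun i => hscal k.1 k.2 (Pi.single i 1)
    have hall : ∀ i, a i = a i0 := by
      intro i
      by_cases hi : i = i0
      · rw [hi]
      obtain ⟨b, hb⟩ := hscal k.1 k.2 (Pi.single i 1 + Pi.single i0 1)
      rw [mulVec_add, ha, ha, smul_add] at hb
      have e1 := congrFun hb i
      have e2 := congrFun hb i0
      simp [hi, Ne.symm hi] at e1 e2
      rw [e1, e2]
    refine ⟨a i0, Subtype.ext (Matrix.ext_of_mulVec_single fun i => ?_)⟩
    rw [ha, hall i]
    ext l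
    simp [Matrix.col, Matrix.one_apply, Pi.single_apply, eq_comm]
  rw [hK.finrank_eq] at hfin
  omega

/-- The special linear group is not contained in a subfield group. -/
theorem not_specialLinear_le_subfieldSubgroup (h2 : 2 ≤ Fintype.card ι) {F₀ : Subfield F} (hF₀ : F₀ ≠ ⊤)
    (P : GL ι F) : ¬ Cfsg.Geo.specialLinear ι F ≤ Cfsg.Geo.subfieldSubgroup F₀ P := by
  intro hle
  obtain ⟨a, -, ha⟩ := SetLike.exists_of_lt hF₀.lt_top
  obtain ⟨i, j, hij⟩ := Fintype.one_lt_card_iff.mp (show 1 < Fintype.card ι by omega)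
  have hd : (a • Pi.single j (1 : F)) ⬝ᵥ Pi.single i (1 : F) = 0 := by simp [hij.symm]
  obtain ⟨x, hx, hxe⟩ := hle (show P * transv (Pi.single i 1) (a • Pi.single j 1) * P⁻¹ ∈ Cfsg.Geo.specialLinear ι F by
    haveI : (Cfsg.Geo.specialLinear ι F).Normal := MonoidHom.normal_ker _
    exact Subgroup.Normal.conj_mem inferInstance _ (transv_mem_specialLinear _ _) P)
  have hxe' : x = transv (Pi.single i 1) (a • Pi.single j 1) := (MulAut.conj P).injective (by simpa using hxe)
  obtain ⟨_, ⟨y, rfl⟩, z, hz, e⟩ := Subgroup.mem_sup_of_normal_right.mp hx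
  obtain ⟨c, hc⟩ := (Cfsg.Geo.mem_scalars_iff z).mp hz
  rw [hxe'] at e
  have h := congrArg (fun g : GL ι F => (g : Matrix ι ι F)) e
  rw [Units.val_mul, hc, transv_val hd] at h
  have h1 := congrFun (congrFun h i) i
  have h2' := congrFun (congrFun h i) j
  simp [vecMulVec_apply, hij, hij.symm, Matrix.one_apply, Pi.single_apply] at h1 h2'
  apply ha
  have hy : ∀ k l, ((Matrix.GeneralLinearGroup.map (F₀.subtype : F₀ →+* F) y : GL ι F) : Matrix ι ι F) k l ∈ F₀ :=
    fun k l => (y.1 k l).2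
  have e1 := hy i i
  have e2 := hy i j
  have hc0 : (c : F) ∈ F₀ := by
    rw [← inv_inv (c : F)]
    refine F₀.inv_mem ?_
    rwa [← eq_inv_of_mul_eq_one_right h1]
  rw [← h2']
  exact F₀.mul_mem hc0 e2

end CfsgLib.Techniques.AschPrime
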