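/-
Monomial groups and their invariant diagonal forms.
-/
import Cfsg.Agent.Lib.Techniques.AschPrime.Forms

set_option autoImplicit false

namespace CfsgLib.Techniques.AschPrime

open Matrix CfsgLib.Transvec
open scoped MatrixGroups

variable {ι : Type} [Fintype ι] [DecidableEq ι] {F : Type*} [Field F]

/-- In the coordinates given by `B`, `s` is a monomial matrix with entries satisfying `good`. -/
def MonoB (B : GL ι F) (good : F → Prop) (s : GL ι F) : Prop :=
  ∃ (π : Equiv.Perm ι) (c : ι → F), (∀ i, good (c i)) ∧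
    (B : Matrix ι ι F) * (s : Matrix ι ι F) * ((B⁻¹ : GL ι F) : Matrix ι ι F) =
      fun i j => if i = π j then c j else 0

/-- The diagonal form in the coordinates given by `B`. -/
def diagForm (B : GL ι F) (τ : F ≃+* F) (u v : ι → F) : F :=
  ∑ i, ((B : Matrix ι ι F) *ᵥ u) i * τ (((B : Matrix ι ι F) *ᵥ v) i)

theorem diagForm_sesq (B : GL ι F) (τ : F ≃+* F) : IsSesq τ (diagForm B τ) where
  add_left x y v := by simp [diagForm, mulVec_add, add_mul, Finset.sum_add_distrib]
  smul_left c x v := by simp [diagForm, mulVec_smul, Finset.mul_sum, mul_assoc]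
  add_right v x y := by simp [diagForm, mulVec_add, mul_add, Finset.sum_add_distrib]
  smul_right c v x := by
    simp only [diagForm, mulVec_smul, Pi.smul_apply, smul_eq_mul, map_mul, Finset.mul_sum]
    exact Finset.sum_congr rfl fun i _ => by ring

theorem diagForm_nondegenerate (B : GL ι F) (τ : F ≃+* F) : Cfsg.Geo.IsNondegenerateForm (diagForm B τ) := by
  intro v hv
  obtain ⟨i, hi⟩ : ∃ i, ((B : Matrix ι ι F) *ᵥ v) i ≠ 0 := Function.ne_iff.mp (CfsgLib.Transvec.mulVec_ne_zero B hv)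
  have e : (B : Matrix ι ι F) *ᵥ (((B⁻¹ : GL ι F) : Matrix ι ι F) *ᵥ Pi.single i 1) = Pi.single i 1 :=
    mulVec_inv_cancel B _
  refine ⟨⟨((B⁻¹ : GL ι F) : Matrix ι ι F) *ᵥ Pi.single i 1, ?_⟩,
    ⟨((B⁻¹ : GL ι F) : Matrix ι ι F) *ᵥ Pi.single i 1, ?_⟩⟩
  · unfold diagForm
    rw [e]
    simpa [Pi.single_apply] using hi
  · unfold diagForm
    rw [e]
    simpa [Pi.single_apply] using hi

theorem diagForm_isUnitary (B : GL ι F) {τ : F ≃+* F} (hne : τ ≠ RingEquiv.refl F) (hinv : ∀ a, τ (τ a) = a) :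
    Cfsg.Geo.IsUnitaryForm τ (diagForm B τ) where
  ne_refl := hne
  involutive := hinv
  add_left := (diagForm_sesq B τ).add_left
  smul_left := (diagForm_sesq B τ).smul_left
  herm v w := by
    simp only [diagForm, map_sum, map_mul, hinv]
    exact Finset.sum_congr rfl fun i _ => mul_comm _ _
  nondegenerate := diagForm_nondegenerate B τ

theorem MonoB.isometry {B : GL ι F} {good : F → Prop} {s : GL ι F} (hs : MonoB B good s) {τ : F ≃+* F}
    (hτ : ∀ a, good a → a * τ a = 1) :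
    ∀ u v, diagForm B τ ((s : Matrix ι ι F) *ᵥ u) ((s : Matrix ι ι F) *ᵥ v) = diagForm B τ u v := by
  obtain ⟨π, c, hc, hM⟩ := hs
  have key : ∀ w, ∀ j, ((B : Matrix ι ι F) *ᵥ ((s : Matrix ι ι F) *ᵥ w)) (π j) =
      c j * ((B : Matrix ι ι F) *ᵥ w) j := by
    intro w j
    have e : (B : Matrix ι ι F) *ᵥ ((s : Matrix ι ι F) *ᵥ w) =
        ((B : Matrix ι ι F) * (s : Matrix ι ι F) * ((B⁻¹ : GL ι F) : Matrix ι ι F)) *ᵥ
          ((B : Matrix ι ι F) *ᵥ w) := by
      rw [← mulVec_mulVec, CfsgLib.Transvec.inv_mulVec_cancel, mulVec_mulVec]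
    rw [e, hM]
    simp only [mulVec, dotProduct, ite_mul, zero_mul]
    rw [Finset.sum_eq_single j (fun k _ hk => by rw [if_neg fun h => hk (π.injective h).symm]) (by simp), if_pos rfl]
  intro u v
  simp only [diagForm]
  rw [← Equiv.sum_comp π]
  refine Finset.sum_congr rfl fun j _ => ?_
  rw [key, key, map_mul]
  have := hτ _ (hc j)
  calc _ = (c j * τ (c j)) * (((B : Matrix ι ι F) *ᵥ u) j * τ (((B : Matrix ι ι F) *ᵥ v) j)) := by ring
    _ = _ := by rw [this, one_mul]

theorem MonoB.entry_mem {B : GL ι F} {good : F → Prop} {s : GL ι F} (hs : MonoB B good s) {F₀ : Subfield F}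
    (hF₀ : ∀ a, good a → a ∈ F₀) (i j : ι) :
    ((B : Matrix ι ι F) * (s : Matrix ι ι F) * ((B⁻¹ : GL ι F) : Matrix ι ι F)) i j ∈ F₀ := by
  obtain ⟨π, c, hc, hM⟩ := hs
  rw [hM]
  simp only
  split_ifs
  · exact hF₀ _ (hc j)
  · exact F₀.zero_mem

theorem diagForm_polar_quad (B : GL ι F) (h2 : (2 : F) ≠ 0) :
    Cfsg.Geo.IsNondegenerateQuadraticForm (fun v => diagForm B (RingEquiv.refl F) v v) := by
  have hs := diagForm_sesq B (RingEquiv.refl F)
  have hsymm : ∀ u v, diagForm B (RingEquiv.refl F) u v = diagForm B (RingEquiv.refl F) v u := fun u v =>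
    Finset.sum_congr rfl fun i _ => mul_comm _ _
  have hp : ∀ u v, QuadraticMap.polar (fun v => diagForm B (RingEquiv.refl F) v v) u v =
      2 * diagForm B (RingEquiv.refl F) u v := fun u v => by
    simp only [QuadraticMap.polar, hs.add_left, hs.add_right, hsymm v u]
    ring
  refine ⟨fun c v => ?_, ⟨?_, ?_, ?_, ?_⟩, fun v hv => ?_⟩
  · rw [hs.smul_left, hs.smul_right, RingEquiv.refl_apply]; ring
  · intro x y v; simp only [hp, hs.add_left]; ring
  · intro c x v; simp only [hp, hs.smul_left]; ring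
  · intro v x y; simp only [hp, hs.add_right]; ring
  · intro c v x; simp only [hp, hs.smul_right, RingEquiv.refl_apply]; ring
  · obtain ⟨⟨x, hx⟩, ⟨y, hy⟩⟩ := diagForm_nondegenerate B (RingEquiv.refl F) v hv
    exact ⟨⟨x, by rw [hp]; exact mul_ne_zero h2 hx⟩, ⟨y, by rw [hp]; exact mul_ne_zero h2 hy⟩⟩

/-- Adapted coordinates for a decomposition into lines. -/
theorem exists_coords {n : ℕ} (hn : Fintype.card ι = n) {D : Fin n → Submodule F (ι → F)}
    (hD : Cfsg.Geo.IsMDecomposition 1 D) :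
    ∃ (B : GL ι F) (e : ι ≃ Fin n),
      ∀ i, ((B⁻¹ : GL ι F) : Matrix ι ι F) *ᵥ Pi.single i 1 ∈ D (e i) := by
  classical
  let e : ι ≃ Fin n := Fintype.equivFinOfCardEq hn
  have hpick : ∀ i, ∃ v ∈ D i, v ≠ (0 : ι → F) := fun i =>
    Submodule.exists_mem_ne_zero_of_ne_bot fun h => by
      have h1 := hD.finrank_eq i
      rw [h, finrank_bot] at h1
      exact zero_ne_one h1
  choose v hv hv0 using hpick
  have hli : LinearIndependent F v := hD.indep.linearIndependent _ hv hv0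
  let C : Matrix ι ι F := Matrix.of fun a i => v (e i) a
  have hCdet : IsUnit C.det := by
    rw [← Matrix.isUnit_iff_isUnit_det, ← Matrix.linearIndependent_cols_iff_isUnit]
    exact hli.comp e e.injective
  refine ⟨(Matrix.GeneralLinearGroup.mk'' C hCdet)⁻¹, e, fun i => ?_⟩
  have h : (((Matrix.GeneralLinearGroup.mk'' C hCdet)⁻¹)⁻¹ : GL ι F).val *ᵥ Pi.single i 1 = v (e i) := by
    rw [inv_inv]
    funext a
    change (C *ᵥ Pi.single i 1) a = _
    simp [C]
  rw [h]
  exact hv _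

/-- The stabiliser of a decomposition into lines is monomial in adapted coordinates. -/
theorem monoB_of_stab [Finite F] {n : ℕ} {D : Fin n → Submodule F (ι → F)}
    (hD : Cfsg.Geo.IsMDecomposition 1 D) {B : GL ι F} {e : ι ≃ Fin n}
    (hB : ∀ i, ((B⁻¹ : GL ι F) : Matrix ι ι F) *ᵥ Pi.single i 1 ∈ D (e i)) {s : GL ι F}
    (hs : s ∈ Cfsg.Geo.decompositionStabilizer D) : MonoB B (fun a => a ≠ 0) s := by
  classical
  obtain ⟨σ, hσ⟩ := hs
  let w : ι → ι → F := fun i => ((B⁻¹ : GL ι F) : Matrix ι ι F) *ᵥ Pi.single i 1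
  have hw0 : ∀ i, w i ≠ 0 := fun i => CfsgLib.Transvec.mulVec_ne_zero _ (by simp)
  let π : Equiv.Perm ι := e.trans (σ.trans e.symm)
  have hc : ∀ i, ∃ c : F, (s : Matrix ι ι F) *ᵥ w i = c • w (π i) := by
    intro i
    have h1 : (s : Matrix ι ι F) *ᵥ w i ∈ D (σ (e i)) := by
      rw [← hσ (e i)]
      exact ⟨w i, hB i, Matrix.toLin'_apply _ _⟩
    have h2 : w (π i) ∈ D (σ (e i)) := by
      have := hB (π i)
      simpa [π, w] using this
    obtain ⟨c, hc⟩ := (finrank_eq_one_iff_of_nonzero' (⟨_, h2⟩ : D (σ (e i)))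
      (fun h => hw0 _ (congrArg Subtype.val h))).mp (hD.finrank_eq _) ⟨_, h1⟩
    exact ⟨c, (congrArg Subtype.val hc).symm⟩
  choose c hc using hc
  refine ⟨π, c, fun i h0 => ?_, ?_⟩
  · exact CfsgLib.Transvec.mulVec_ne_zero s (hw0 i) (by rw [hc, h0, zero_smul])
  refine Matrix.ext_of_mulVec_single fun j => ?_
  rw [← mulVec_mulVec, ← mulVec_mulVec]
  change (B : Matrix ι ι F) *ᵥ ((s : Matrix ι ι F) *ᵥ w j) = _
  rw [hc, mulVec_smul, mulVec_inv_cancel]
  funext a
  simp [Matrix.mulVec, dotProduct, Pi.single_apply]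

/-- The special linear group moves some line of a decomposition outside the decomposition. -/
theorem not_specialLinear_le_decompositionStabilizer {n : ℕ} {D : Fin n → Submodule F (ι → F)}
    (hD : Cfsg.Geo.IsMDecomposition 1 D) :
    ¬ Cfsg.Geo.specialLinear ι F ≤ Cfsg.Geo.decompositionStabilizer D := by
  intro hle
  have h2 := hD.two_le
  have hpick : ∀ i, ∃ v ∈ D i, v ≠ (0 : ι → F) := fun i =>
    Submodule.exists_mem_ne_zero_of_ne_bot fun h => by
      have h1 := hD.finrank_eq i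
      rw [h, finrank_bot] at h1
      exact zero_ne_one h1
  choose v hv hv0 using hpick
  have hspan : ∀ i, ∀ x ∈ D i, ∃ a : F, a • v i = x := fun i x hx => by
    obtain ⟨a, ha⟩ := (finrank_eq_one_iff_of_nonzero' (⟨v i, hv i⟩ : D i)
      (fun h => hv0 i (congrArg Subtype.val h))).mp (hD.finrank_eq i) ⟨x, hx⟩
    exact ⟨a, congrArg Subtype.val ha⟩
  let i₀ : Fin n := ⟨0, by omega⟩
  let i₁ : Fin n := ⟨1, by omega⟩
  have h01 : i₀ ≠ i₁ := by simp [i₀, i₁]
  have hli : LinearIndependent F v := hD.indep.linearIndependent _ hv hv0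
  have hnot : v i₀ ∉ Submodule.span F {v i₁} := fun h => by
    obtain ⟨a, ha⟩ := Submodule.mem_span_singleton.mp h
    have := (Fintype.linearIndependent_iff.mp hli) (fun k => if k = i₀ then 1 else if k = i₁ then -a else 0)
      (by
        rw [Finset.sum_eq_add i₀ i₁ h01 (fun k _ hk => by simp [hk.1, hk.2]) (by simp) (by simp)]
        simp [h01.symm, ha]) i₀
    simp at this
  obtain ⟨φ, hφ, hφ0⟩ := exists_functional hnot
  have hd := hφ _ (Submodule.mem_span_singleton_self (v i₁))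
  obtain ⟨σ, hσ⟩ := hle (transv_mem_specialLinear (v i₁) φ)
  have hmem : v i₀ + v i₁ ∈ D (σ i₀) := by
    rw [← hσ i₀]
    exact ⟨v i₀, hv i₀, by rw [Matrix.toLin'_apply, transv_mulVec hd, hφ0, one_smul]⟩
  obtain ⟨a, ha⟩ := hspan _ _ hmem
  let cf : Fin n → F := fun k =>
    (if k = σ i₀ then a else 0) - (if k = i₀ then 1 else 0) - (if k = i₁ then 1 else 0)
  have hsum : ∑ k, cf k • v k = 0 := by
    simp only [cf, sub_smul, Finset.sum_sub_distrib, ite_smul, one_smul, zero_smul, Finset.sum_ite_eq',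
      Finset.mem_univ, if_true]
    rw [ha]; abel
  have e0 := (Fintype.linearIndependent_iff.mp hli) cf hsum i₀
  have e1 := (Fintype.linearIndependent_iff.mp hli) cf hsum i₁
  simp only [cf, h01, h01.symm, if_true, if_false, sub_zero] at e0 e1
  by_cases h : i₀ = σ i₀
  · rw [if_neg fun h' => h01 (h.trans h'.symm)] at e1
    simp at e1
  · rw [if_neg h] at e0
    simp at e0

end CfsgLib.Techniques.AschPrime
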