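/-
Subfields of finite fields by their roots of unity and their index.
-/
import Mathlib

set_option autoImplicit false

namespace CfsgLib.Techniques.AschPrime

variable {F : Type*} [Field F] [Fintype F]

/-- A finite field of order `p ^ e` has a subfield of order `p ^ k` for `k ∣ e`, consisting of the roots of
`X ^ p ^ k - X`. -/
theorem exists_subfield_pow {p e k : ℕ} (hp : p.Prime) [CharP F p] (hcard : Fintype.card F = p ^ e) (hk : k ∣ e)
    (hk0 : k ≠ 0) : ∃ S : Subfield F, Nat.card S = p ^ k ∧ ∀ x : F, x ^ (p ^ k) = x → x ∈ S := by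
  classical
  haveI : Fact p.Prime := ⟨hp⟩
  letI : Algebra (ZMod p) F := ZMod.algebra F p
  haveI : Fintype (GaloisField p k) := Fintype.ofFinite _
  have hdvd : Module.finrank (ZMod p) (GaloisField p k) ∣ Module.finrank (ZMod p) F := by
    have e2 := FiniteField.pow_finrank_eq_card p F
    rw [hcard] at e2
    rw [GaloisField.finrank p hk0, Nat.pow_right_injective hp.two_le e2]
    exact hk
  obtain ⟨σ⟩ := FiniteField.nonempty_algHom_of_finrank_dvd hdvd
  refine ⟨σ.toRingHom.fieldRange, ?_, fun x hx => ?_⟩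
  · rw [← GaloisField.card p k hk0]
    exact (Nat.card_congr (Equiv.ofBijective σ.toRingHom.rangeRestrictField
      ⟨fun a b e => σ.injective (congrArg Subtype.val e), σ.toRingHom.rangeRestrictField_bijective.2⟩)).symm
  · by_contra hxS
    let P : Polynomial F := Polynomial.X ^ (p ^ k) - Polynomial.X
    have hP : P ≠ 0 := FiniteField.X_pow_card_sub_X_ne_zero F (Nat.one_lt_pow hk0 hp.one_lt)
    let s : Finset F := insert x (Finset.univ.image σ)
    have hcs : s.card = p ^ k + 1 := by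
      rw [Finset.card_insert_of_notMem, Finset.card_image_of_injective _ (show Function.Injective σ from σ.toRingHom.injective), Finset.card_univ,
        ← Nat.card_eq_fintype_card, GaloisField.card p k hk0]
      intro hmem
      obtain ⟨a, -, ha⟩ := Finset.mem_image.mp hmem
      exact hxS ⟨a, ha⟩
    have hsub : s.val ⊆ P.roots := by
      intro y hy
      rw [Polynomial.mem_roots hP]
      simp only [P, Polynomial.IsRoot.def, Polynomial.eval_sub, Polynomial.eval_pow, Polynomial.eval_X, sub_eq_zero]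
      rcases Finset.mem_insert.mp hy with rfl | hy
      · exact hx
      · obtain ⟨a, -, rfl⟩ := Finset.mem_image.mp hy
        have ha := FiniteField.pow_card a
        rw [← Nat.card_eq_fintype_card, GaloisField.card p k hk0] at ha
        rw [← map_pow, ha]
    have h := Polynomial.card_le_degree_of_subset_roots hsub
    rw [hcs, FiniteField.X_pow_card_sub_X_natDegree_eq F (Nat.one_lt_pow hk0 hp.one_lt)] at h
    omega

/-- Every proper subfield lies in a subfield of prime index. -/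
theorem exists_prime_index (F₀ : Subfield F) (h : F₀ ≠ ⊤) :
    ∃ (F₁ : Subfield F) (r : ℕ), r.Prime ∧ Fintype.card F = Nat.card F₁ ^ r ∧ F₀ ≤ F₁ := by
  classical
  obtain ⟨p, _⟩ := CharP.exists F
  have hp : p.Prime := CharP.char_is_prime F p
  haveI : Fact p.Prime := ⟨hp⟩
  obtain ⟨e, -, he⟩ := FiniteField.card F p
  haveI : CharP F₀ p := (RingHom.charP_iff_charP F₀.subtype p).2 inferInstance
  haveI : Fintype F₀ := Fintype.ofFinite _
  obtain ⟨d, -, hd⟩ := FiniteField.card F₀ p
  have hpow : ∃ m, (e : ℕ) = d * m := by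
    have h1 := Module.card_eq_pow_finrank (K := F₀) (V := F)
    rw [he, hd, ← pow_mul] at h1
    exact ⟨_, Nat.pow_right_injective hp.two_le h1⟩
  obtain ⟨m, hm⟩ := hpow
  have hm1 : m ≠ 1 := fun h1 => h (by
    rw [eq_top_iff]
    intro x _
    have hbij : Function.Bijective (F₀.subtype : F₀ → F) :=
      (Fintype.bijective_iff_injective_and_card _).mpr ⟨Subtype.val_injective, by rw [he, hd, hm, h1, mul_one]⟩
    obtain ⟨y, rfl⟩ := hbij.2 x
    exact y.2)
  obtain ⟨r, hr, u, hu⟩ := Nat.exists_prime_and_dvd hm1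
  have hu0 : u ≠ 0 := fun h0 => e.ne_zero (by rw [hm, hu, h0, mul_zero, mul_zero])
  obtain ⟨S, hS, hmem⟩ := exists_subfield_pow (k := d * u) hp he ⟨r, by rw [hm, hu]; ring⟩
    (Nat.mul_ne_zero d.ne_zero hu0)
  refine ⟨S, r, hr, by rw [hS, ← pow_mul, he, hm, hu]; ring_nf, fun x hx => hmem x ?_⟩
  have h2 := congrArg Subtype.val (FiniteField.pow_card_pow u (⟨x, hx⟩ : F₀))
  rw [hd, ← pow_mul] at h2
  simpa using h2

/-- The exponent data of a field containing a primitive `n`-th root of unity, `n` prime: either there is a subfield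
of prime index containing all `n`-th roots of unity, or the field is minimal. -/
theorem root_dichotomy {n : ℕ} (hn : n.Prime) {ζ : F} (hζ : IsPrimitiveRoot ζ n) :
    (∃ (S : Subfield F) (r : ℕ), r.Prime ∧ Fintype.card F = Nat.card S ^ r ∧ ∀ x : F, x ^ n = 1 → x ∈ S) ∨
    ∃ p e : ℕ, p.Prime ∧ CharP F p ∧ Fintype.card F = p ^ e ∧ n ≠ p ∧ n ∣ p ^ e - 1 ∧ e ∣ n - 1 ∧
      ∀ d : ℕ, 0 < d → d < e → ¬ n ∣ p ^ d - 1 := by
  classical
  obtain ⟨p, hchar⟩ := CharP.exists F
  have hp : p.Prime := CharP.char_is_prime F p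
  haveI : Fact p.Prime := ⟨hp⟩
  obtain ⟨⟨e, he0⟩, -, he⟩ := FiniteField.card F p
  change Fintype.card F = p ^ e at he
  haveI : NeZero n := ⟨hn.ne_zero⟩
  have hnF : (n : F) ≠ 0 := (hζ.neZero').out
  have hne : n ≠ p := fun h => hnF (by rw [h]; exact CharP.cast_eq_zero F p)
  have hdiv : n ∣ p ^ e - 1 := by
    have h1 := FiniteField.pow_card_sub_one_eq_one ζ (hζ.ne_zero hn.ne_zero)
    rw [he] at h1
    exact hζ.dvd_of_pow_eq_one _ h1
  by_cases hmin : ∀ d : ℕ, 0 < d → d < e → ¬ n ∣ p ^ d - 1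
  · refine Or.inr ⟨p, e, hp, hchar, he, hne, hdiv, ?_, hmin⟩
    haveI : Fact n.Prime := ⟨hn⟩
    have hfer : n ∣ p ^ (n - 1) - 1 := by
      have hpn : (p : ZMod n) ≠ 0 := fun h =>
        hne ((Nat.prime_dvd_prime_iff_eq hn hp).mp ((ZMod.natCast_eq_zero_iff _ _).mp h))
      have h1 := ZMod.pow_card_sub_one_eq_one hpn
      rw [← Nat.modEq_iff_dvd' (Nat.one_le_pow _ _ hp.pos)]
      exact ((ZMod.natCast_eq_natCast_iff _ _ _).mp (by push_cast; exact h1)).symm
    have hg : n ∣ p ^ (Nat.gcd e (n - 1)) - 1 := by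
      rw [← Nat.pow_sub_one_gcd_pow_sub_one]; exact Nat.dvd_gcd hdiv hfer
    have hgpos : 0 < Nat.gcd e (n - 1) := Nat.gcd_pos_of_pos_left _ he0
    rcases (Nat.le_of_dvd he0 (Nat.gcd_dvd_left e (n - 1))).lt_or_eq with h | h
    · exact absurd hg (hmin _ hgpos h)
    · exact h ▸ Nat.gcd_dvd_right e (n - 1)
  · left
    push Not at hmin
    obtain ⟨d, hd0, hde, hd⟩ := hmin
    have hg : n ∣ p ^ (Nat.gcd e d) - 1 := by
      rw [← Nat.pow_sub_one_gcd_pow_sub_one]; exact Nat.dvd_gcd hdiv hd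
    have hglt : Nat.gcd e d < e := lt_of_le_of_lt (Nat.le_of_dvd hd0 (Nat.gcd_dvd_right e d)) hde
    obtain ⟨m, hm⟩ := Nat.gcd_dvd_left e d
    have hm1 : m ≠ 1 := fun h => by rw [h, mul_one] at hm; omega
    obtain ⟨r, hr, u, hu⟩ := Nat.exists_prime_and_dvd hm1
    have hgu : e = Nat.gcd e d * u * r := by rw [mul_assoc, mul_comm u, ← hu]; exact hm
    have hu0 : Nat.gcd e d * u ≠ 0 := fun h => by rw [h, zero_mul] at hgu; omega
    obtain ⟨S, hS, hmem⟩ := exists_subfield_pow (k := Nat.gcd e d * u) hp he ⟨r, hgu⟩ hu0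
    refine ⟨S, r, hr, by rw [hS, ← pow_mul, ← hgu, he], fun x hx => hmem x ?_⟩
    have h3 : n ∣ p ^ (Nat.gcd e d * u) - 1 := by
      rw [pow_mul]; exact hg.trans (Nat.sub_one_dvd_pow_sub_one _ u)
    obtain ⟨c, hc⟩ := h3
    rw [show p ^ (Nat.gcd e d * u) = n * c + 1 by
      have := Nat.one_le_pow (Nat.gcd e d * u) p hp.pos; omega, pow_succ, pow_mul, hx, one_pow, one_mul]

end CfsgLib.Techniques.AschPrime
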