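/-
Maximal subgroups of the special linear group of odd prime degree.
-/
import Cfsg.Agent.Lib.Techniques.AschPrime.Cases
import Cfsg.Agent.Lib.Techniques.AschPrime.Mono
import Cfsg.Agent.Lib.Techniques.AschPrime.Subfield

set_option autoImplicit false

namespace CfsgLib.Techniques.AschPrime

open Matrix CfsgLib.Transvec
open scoped MatrixGroups

variable {ι : Type} [Fintype ι] [DecidableEq ι] {F : Type*} [Field F] [Fintype F]

theorem eq_inf_of_le {K H M : Subgroup (GL ι F)} (hH : Cfsg.Geo.IsMaximalIn K H) (hle : H ≤ M) (hK : ¬ K ≤ M) :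
    H = M ⊓ K := by
  rcases hH.2 (M ⊓ K) (le_inf hle hH.1.le) inf_le_right with h | h
  · exact h.symm
  · exact absurd (inf_eq_right.mp h) hK

theorem IsUnitaryForm.sesq {σ : F ≃+* F} {f : (ι → F) → (ι → F) → F} (hf : Cfsg.Geo.IsUnitaryForm σ f) :
    IsSesq σ f := IsSesq.of_unitary hf

/-- A monomial group with entries killed by `τ` fixes the diagonal form. -/
theorem fixes_diagForm {B : GL ι F} {good : F → Prop} {τ : F ≃+* F} {S : Subgroup (GL ι F)}
    (hS : ∀ s ∈ S, MonoB B good s) (hτ : ∀ a, good a → a * τ a = 1) :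
    Cfsg.Geo.FixesForm (Cfsg.Geo.matrixSet S) (diagForm B τ) := by
  rintro _ ⟨s, hs, rfl⟩ u v
  exact (hS s hs).isometry hτ u v

/-- The special linear group does not normalise the extraspecial group. -/
theorem not_specialLinear_le_normalizer (hn2 : 2 ≤ Fintype.card ι) (hn0 : (Fintype.card ι : F) ≠ 0)
    {R : Subgroup (GL ι F)} (hpow : ∀ x ∈ R, x ^ Fintype.card ι = 1) {B x : GL ι F} (hx : x ∈ R) {d : ι → F}
    (hd : Function.Injective d)
    (hdiag : (B : Matrix ι ι F) * (x : Matrix ι ι F) * ((B⁻¹ : GL ι F) : Matrix ι ι F) = Matrix.diagonal d) :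
    ¬ Cfsg.Geo.specialLinear ι F ≤ Cfsg.Geo.subgroupNormalizer R := by
  intro hle
  obtain ⟨i, j, hij⟩ := Fintype.one_lt_card_iff.mp (show 1 < Fintype.card ι by omega)
  set v : ι → F := Pi.single i 1 with hv
  set φ : ι → F := Pi.single j 1 with hφ
  have hφv : φ ⬝ᵥ v = 0 := by simp [hv, hφ, hij.symm]
  set t : GL ι F := B⁻¹ * transv v φ * B with ht
  have htS : t ∈ Cfsg.Geo.specialLinear ι F := by
    haveI : (Cfsg.Geo.specialLinear ι F).Normal := MonoidHom.normal_ker _
    have h := Subgroup.Normal.conj_mem (H := Cfsg.Geo.specialLinear ι F) inferInstance _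
      (transv_mem_specialLinear v φ) B⁻¹
    rwa [inv_inv] at h
  have hmem : t * x * t⁻¹ * x⁻¹ ∈ R :=
    R.mul_mem ((Subgroup.mem_normalizer_iff.mp (hle htS) x).mp hx) (R.inv_mem hx)
  set y : GL ι F := B * x * B⁻¹ with hy
  have hyd : (y : Matrix ι ι F) = Matrix.diagonal d := by rw [hy, Units.val_mul, Units.val_mul, hdiag]
  have hdj : d j ≠ 0 := by
    intro h0
    have h1 : (y : Matrix ι ι F) *ᵥ Pi.single j 1 = 0 := by
      rw [hyd]; funext k; simp [h0]
    exact CfsgLib.Transvec.mulVec_ne_zero y (by simp) h1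
  -- conjugation of the transvection by the diagonal element
  have hyv : (y : Matrix ι ι F) *ᵥ v = d i • v := by
    rw [hyd, hv]; funext k; by_cases h : k = i <;> simp [h]
  have hyφ : φ ᵥ* ((y⁻¹ : GL ι F) : Matrix ι ι F) = (d j)⁻¹ • φ := by
    have h1 : φ ᵥ* (y : Matrix ι ι F) = d j • φ := by
      rw [hyd, hφ]; funext k; by_cases h : k = j <;> simp [h, vecMul_diagonal]
    have h2 := congrArg (· ᵥ* ((y⁻¹ : GL ι F) : Matrix ι ι F)) h1
    simp only [vecMul_vecMul, ← Units.val_mul, mul_inv_cancel, Units.val_one, vecMul_one, smul_vecMul] at h2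
    conv_rhs => rw [h2]
    rw [smul_smul, inv_mul_cancel₀ hdj, one_smul]
  set c : F := 1 - d i * (d j)⁻¹ with hc
  have hcomm : B * (t * x * t⁻¹ * x⁻¹) * B⁻¹ = transv v (c • φ) := by
    have e : B * (t * x * t⁻¹ * x⁻¹) * B⁻¹ = transv v φ * (y * (transv v φ)⁻¹ * y⁻¹) := by
      simp only [ht, hy]; group
    have hneg : (-φ) ⬝ᵥ v = 0 := by rw [neg_dotProduct, hφv, neg_zero]
    have hd2 : (-((d j)⁻¹ • φ)) ⬝ᵥ v = 0 := by rw [neg_dotProduct, smul_dotProduct, hφv, smul_zero, neg_zero]
    rw [e, transv_inv hφv, conj_transv y hneg, hyv, neg_vecMul, hyφ, transv_smul_left _ hd2,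
      transv_mul hφv (by rw [smul_dotProduct, hd2, smul_zero])]
    congr 1
    simp only [hc, sub_smul, one_smul, smul_neg, smul_smul]
    abel
  have hc0 : c ≠ 0 := by
    intro h0
    rw [hc, sub_eq_zero] at h0
    apply hij
    apply hd
    calc d i = d i * (d j)⁻¹ * d j := by rw [mul_assoc, inv_mul_cancel₀ hdj, mul_one]
      _ = d j := by rw [← h0, one_mul]
  have hcd : ∀ a : F, (a • φ) ⬝ᵥ v = 0 := fun a => by rw [smul_dotProduct, hφv, smul_zero]
  have hpow' : ∀ k : ℕ, (transv v (c • φ)) ^ k = transv v ((k * c) • φ) := by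
    intro k
    induction k with
    | zero => simp
    | succ k ih => rw [pow_succ, ih, transv_mul (hcd _) (hcd _), ← add_smul]; push_cast; ring_nf
  have h1 : (transv v (c • φ)) ^ Fintype.card ι = 1 := by
    rw [← hcomm, conj_pow, hpow _ hmem, mul_one, mul_inv_cancel]
  rw [hpow'] at h1
  have h2 := congrArg (fun g : GL ι F => (g : Matrix ι ι F) i j) h1
  try dsimp only at h2
  rw [transv_val (hcd _), Units.val_one] at h2
  simp [transv_val (hcd _), hv, hφ, vecMulVec_apply, hij] at h2
  rcases h2 with h2 | h2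
  · exact hn0 h2
  · exact hc0 h2

/-- The general form of the maximal subgroup theorem for the special linear group in odd prime degree. -/
theorem sl_max (hn : (Fintype.card ι).Prime) (hodd : Odd (Fintype.card ι)) {H : Subgroup (GL ι F)}
    (hH : Cfsg.Geo.IsMaximalIn (Cfsg.Geo.specialLinear ι F) H) :
    (∃ W : Submodule F (ι → F), W ≠ ⊥ ∧ W ≠ ⊤ ∧
      H = Cfsg.Geo.subspaceStabilizer W ⊓ Cfsg.Geo.specialLinear ι F) ∨
    (5 ≤ Fintype.card F ∧ ∃ D : Fin (Fintype.card ι) → Submodule F (ι → F), Cfsg.Geo.IsMDecomposition 1 D ∧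
      H = Cfsg.Geo.decompositionStabilizer D ⊓ Cfsg.Geo.specialLinear ι F) ∨
    (∃ K : Subalgebra F (Matrix ι ι F), Cfsg.Geo.IsFieldSubalgebra (Fintype.card ι) K ∧
      H = Cfsg.Geo.subalgebraNormalizer K ⊓ Cfsg.Geo.specialLinear ι F) ∨
    (∃ (F₀ : Subfield F) (r : ℕ) (P : GL ι F), r.Prime ∧ Fintype.card F = Nat.card F₀ ^ r ∧
      H = Cfsg.Geo.subfieldSubgroup F₀ P ⊓ Cfsg.Geo.specialLinear ι F) ∨
    (∃ (p e : ℕ) (R : Subgroup (GL ι F)), p.Prime ∧ CharP F p ∧ Fintype.card F = p ^ e ∧ Odd e ∧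
      e ∣ Fintype.card ι - 1 ∧ Fintype.card ι ≠ p ∧ Fintype.card ι ∣ p ^ e - 1 ∧
      (∀ d : ℕ, 0 < d → d < e → ¬ Fintype.card ι ∣ p ^ d - 1) ∧
      Cfsg.Geo.IsLinearSymplecticTypeData (Fintype.card ι) R ∧
      H = Cfsg.Geo.subgroupNormalizer R ⊓ Cfsg.Geo.specialLinear ι F) ∨
    (Odd (Fintype.card F) ∧ ∃ Q : (ι → F) → F, Cfsg.Geo.IsNondegenerateQuadraticForm Q ∧
      H = Cfsg.Geo.quadSimilarityGroup Q ⊓ Cfsg.Geo.specialLinear ι F) ∨
    (∃ (σ : F ≃+* F) (f : (ι → F) → (ι → F) → F), Cfsg.Geo.IsUnitaryForm σ f ∧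
      H = Cfsg.Geo.similarityGroup f ⊓ Cfsg.Geo.specialLinear ι F) ∨
    Cfsg.Geo.InLinearResidualClass H := by
  classical
  have hn3 : 3 ≤ Fintype.card ι := by
    have h2 := hn.two_le
    obtain ⟨k, hk⟩ := hodd
    omega
  haveI : Nonempty ι := Fintype.card_pos_iff.mp hn.pos
  have hHdet : H ≤ Cfsg.Geo.specialLinear ι F := hH.1.le
  -- the reducible case
  by_cases hirr : Irr H
  swap
  · rw [irr_iff] at hirr
    push Not at hirr
    obtain ⟨W, hW, hW0, hW1⟩ := hirr
    obtain ⟨g, hg, hg'⟩ := exists_transv_not_stab hW0 hW1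
    exact Or.inl ⟨W, hW0, hW1, eq_inf_of_le hH (fun h hh => mem_subspaceStabilizer_of_maps (hW h hh))
      fun hle => hg' (hle hg)⟩
  have mkSim : ∀ (τ : F ≃+* F) (f : (ι → F) → (ι → F) → F), Cfsg.Geo.IsUnitaryForm τ f →
      H ≤ Cfsg.Geo.similarityGroup f → H = Cfsg.Geo.similarityGroup f ⊓ Cfsg.Geo.specialLinear ι F := fun τ f hf hle =>
    eq_inf_of_le hH hle (not_specialLinear_le_similarity hn3 (IsSesq.of_unitary hf) hf.nondegenerate)
  have mkSub : ∀ (F₀ : Subfield F) (r : ℕ) (B : GL ι F), r.Prime → Fintype.card F = Nat.card F₀ ^ r →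
      ∀ S : Subgroup (GL ι F), AbsIrr S → NormalisedBy H S →
      (∀ s ∈ S, ∀ i j, ((B : Matrix ι ι F) * (s : Matrix ι ι F) * ((B⁻¹ : GL ι F) : Matrix ι ι F)) i j ∈ F₀) →
      ∃ (F₀ : Subfield F) (r : ℕ) (P : GL ι F), r.Prime ∧ Fintype.card F = Nat.card F₀ ^ r ∧
        H = Cfsg.Geo.subfieldSubgroup F₀ P ⊓ Cfsg.Geo.specialLinear ι F := by
    intro F₀ r B hr hcard S hS hSn hrat
    refine ⟨F₀, r, B⁻¹, hr, hcard, eq_inf_of_le hH
      (fun h hh => mem_subfieldSubgroup_of_normalises hS hrat (hSn h hh))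
      (not_specialLinear_le_subfieldSubgroup hn.two_le (fun htop => ?_) _)⟩
    rw [htop, Nat.card_congr (Equiv.subtypeUnivEquiv fun x => Subfield.mem_top x), Nat.card_eq_fintype_card] at hcard
    exact hr.one_lt.ne' ((Nat.pow_eq_self_iff Fintype.one_lt_card).mp hcard.symm)
  rcases cases_prime hn hodd hirr hHdet with ⟨A, D, -, -, -, hD, hst, -⟩ | ⟨A, -, -, -, hK, hle⟩ | ⟨R, hR⟩ | ⟨P, hP⟩
  · -- a decomposition into lines
    by_cases h5 : 5 ≤ Fintype.card F
    · exact Or.inr (Or.inl ⟨h5, D, hD, eq_inf_of_le hH hst (not_specialLinear_le_decompositionStabilizer hD)⟩)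
    obtain ⟨B, e, hB⟩ := exists_coords rfl hD
    have hmono : ∀ s ∈ H, MonoB B (fun a => a ≠ 0) s := fun s hs => monoB_of_stab hD hB (hst hs)
    have h1 : 1 < Fintype.card F := Fintype.one_lt_card
    have hpow : ∀ a : F, a ≠ 0 → a ^ (Fintype.card F - 1) = 1 := fun a ha => FiniteField.pow_card_sub_one_eq_one a ha
    rcases (show Fintype.card F = 2 ∨ Fintype.card F = 3 ∨ Fintype.card F = 4 by omega) with hq | hq | hq
    · -- two elements: the sum of the basis is fixed
      exfalso
      set u : ι → F := ((B⁻¹ : GL ι F) : Matrix ι ι F) *ᵥ (fun _ => 1) with hu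
      have hu0 : u ≠ 0 := CfsgLib.Transvec.mulVec_ne_zero _ fun h => one_ne_zero (congrFun h (Classical.arbitrary ι))
      have hinv : Inv H (Submodule.span F {u}) := by
        intro h hh w hw
        obtain ⟨a, rfl⟩ := Submodule.mem_span_singleton.mp hw
        rw [mulVec_smul]
        refine Submodule.smul_mem _ _ ?_
        obtain ⟨π, c, hc, hM⟩ := hmono h hh
        have hfix : (h : Matrix ι ι F) *ᵥ u = u := by
          apply CfsgLib.Transvec.mulVec_injective B
          simp only
          rw [hu, mulVec_mulVec, mulVec_mulVec, hM, mulVec_inv_cancel]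
          funext i
          simp only [mulVec, dotProduct, mul_one]
          rw [Finset.sum_eq_single (π.symm i) (fun k _ hk => if_neg fun h => hk (by rw [h, Equiv.symm_apply_apply]))
            (by simp), if_pos (Equiv.apply_symm_apply π i).symm]
          have := hpow _ (hc (π.symm i))
          rwa [hq, pow_one] at this
        rw [hfix]
        exact Submodule.mem_span_singleton_self u
      rcases (irr_iff H).mp hirr _ hinv with h | h
      · exact hu0 (by simpa using h)
      · have h2 := congrArg (fun U : Submodule F (ι → F) => Module.finrank F U) h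
        rw [finrank_span_singleton hu0, finrank_top, Module.finrank_pi] at h2
        omega
    · -- three elements: a quadratic form
      have h2 : (2 : F) ≠ 0 := by
        intro h
        have h2' : ringChar F = 2 := CharP.ringChar_of_prime_eq_zero Nat.prime_two (by exact_mod_cast h)
        have := FiniteField.even_card_of_char_two h2'
        rw [hq] at this
        omega
      refine Or.inr (Or.inr (Or.inr (Or.inr (Or.inr (Or.inl ⟨by rw [hq]; decide, _,
        diagForm_polar_quad B h2, eq_inf_of_le hH ?_ ?_⟩)))))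
      · intro h hh
        refine ⟨1, fun v => ?_⟩
        rw [Units.val_one, one_mul]
        exact (hmono h hh).isometry (fun a ha => by
          have := hpow a ha
          rw [hq] at this
          simpa [sq] using this) v v
      · exact fun hle => not_specialLinear_le_similarity hn3
          (IsSesq.of_bilinear (diagForm_polar_quad B h2).polar_bilinear) (diagForm_polar_quad B h2).nondegenerate
          (hle.trans (quadSimilarity_le _))
    · -- four elements: a unitary form
      obtain ⟨p, _⟩ := CharP.exists F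
      have hp : p.Prime := CharP.char_is_prime F p
      haveI : Fact p.Prime := ⟨hp⟩
      obtain ⟨k, -, hk⟩ := FiniteField.card F p
      have hp2 : p = 2 := by
        have h4 : p ∣ 2 ^ 2 := by rw [show (2 : ℕ) ^ 2 = Fintype.card F by rw [hq]; rfl, hk]; exact dvd_pow_self p k.ne_zero
        exact (Nat.prime_dvd_prime_iff_eq hp Nat.prime_two).mp (hp.dvd_of_dvd_pow h4)
      subst hp2
      let τ : F ≃+* F := frobeniusEquiv F 2
      have hτ : ∀ a, τ a = a ^ 2 := fun a => rfl
      have hne : τ ≠ RingEquiv.refl F := by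
        intro h
        obtain ⟨a, ha⟩ : ∃ a : F, a ∉ ({0, 1} : Finset F) := by
          by_contra hno
          push Not at hno
          have h1 := Finset.card_le_card (s := Finset.univ) (fun a _ => hno a)
          rw [Finset.card_univ, hq] at h1
          exact absurd (h1.trans Finset.card_le_two) (by norm_num)
        simp only [Finset.mem_insert, Finset.mem_singleton, not_or] at ha
        have h1 : a ^ 2 = a := by rw [← hτ, h]; rfl
        exact ha.2 (mul_left_cancel₀ ha.1 (by rw [← sq, h1, mul_one]))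
      have hinv : ∀ a, τ (τ a) = a := fun a => by
        rw [hτ, hτ, ← pow_mul]
        have := FiniteField.pow_card a
        rwa [hq] at this
      refine Or.inr (Or.inr (Or.inr (Or.inr (Or.inr (Or.inr (Or.inl ⟨τ, _, diagForm_isUnitary B hne hinv,
        mkSim _ _ (diagForm_isUnitary B hne hinv) fun h hh => ⟨1, fun u v => ?_⟩⟩))))))
      rw [Units.val_one, one_mul]
      exact (hmono h hh).isometry (fun a ha => by
        have := hpow a ha
        rw [hq] at this
        rw [hτ, ← pow_succ']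
        exact this) u v
  · -- a field
    exact Or.inr (Or.inr (Or.inl ⟨cent A, hK, eq_inf_of_le hH hle
      (not_specialLinear_le_subalgebraNormalizer hn3 hK (by omega))⟩))
  · -- symplectic type
    obtain ⟨ζ, hζ⟩ := hR.root
    obtain ⟨B, ⟨x, hx, d, hd, hdiag⟩, hmono⟩ := hR.basis
    have hmono' : ∀ s ∈ R, MonoB B (fun a => a ^ Fintype.card ι = 1) s := hmono
    haveI : NeZero (Fintype.card ι) := ⟨hn.ne_zero⟩
    rcases root_dichotomy hn hζ with ⟨S, r, hr, hcard, hmem⟩ |
      ⟨p, e, hp, hchar, hcard, hnp, hdiv, hdvd, hmin⟩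
    · exact Or.inr (Or.inr (Or.inr (Or.inl (mkSub S r B hr hcard R hR.absIrr hR.normalised
        fun s hs => (hmono' s hs).entry_mem hmem))))
    haveI := hchar
    haveI : Fact p.Prime := ⟨hp⟩
    have he0 : 0 < e := by
      rcases Nat.eq_zero_or_pos e with h | h
      · rw [h, pow_zero] at hcard
        have := Fintype.one_lt_card (α := F)
        omega
      · exact h
    rcases Nat.even_or_odd e with heven | hoe
    · obtain ⟨k, hk⟩ := heven
      have hk0 : 0 < k := by omega
      let τ : F ≃+* F := iterateFrobeniusEquiv F p k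
      have hτ : ∀ a, τ a = a ^ p ^ k := fun a => iterateFrobeniusEquiv_def F p k a
      have hsq : p ^ e = p ^ k * p ^ k := by rw [hk, pow_add]
      have hinv : ∀ a, τ (τ a) = a := fun a => by
        rw [hτ, hτ, ← pow_mul, ← hsq, ← hcard]
        exact FiniteField.pow_card a
      have hplus : Fintype.card ι ∣ p ^ k + 1 := by
        have h1 : p ^ e - 1 = (p ^ k + 1) * (p ^ k - 1) := by
          rw [hsq, ← Nat.sq_sub_sq, one_pow, sq]
        rcases hn.dvd_mul.mp (h1 ▸ hdiv) with h | h
        · exact h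
        · exact absurd h (hmin k hk0 (by omega))
      have hgood : ∀ a : F, a ^ Fintype.card ι = 1 → a * τ a = 1 := fun a ha => by
        obtain ⟨c, hc⟩ := hplus
        rw [hτ, ← pow_succ', hc, pow_mul, ha, one_pow]
      have hne : τ ≠ RingEquiv.refl F := fun h => by
        have h1 := hgood ζ hζ.pow_eq_one
        rw [h, RingEquiv.refl_apply, ← sq] at h1
        have := Nat.le_of_dvd two_pos (hζ.dvd_of_pow_eq_one 2 h1)
        omega
      exact Or.inr (Or.inr (Or.inr (Or.inr (Or.inr (Or.inr (Or.inl ⟨τ, _, diagForm_isUnitary B hne hinv,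
        mkSim _ _ (diagForm_isUnitary B hne hinv) (le_similarityGroup (diagForm_sesq B τ)
          (diagForm_nondegenerate B τ) hR.absIrr hR.normalised (fixes_diagForm hmono' hgood))⟩))))))
    refine Or.inr (Or.inr (Or.inr (Or.inr (Or.inl ⟨p, e, R, hp, hchar, hcard, hoe, hdvd, hnp, hdiv, hmin,
      ⟨hR.symplecticType, hR.absIrr, p, e, hnp, ?_, Or.inl ⟨hodd, hoe, hR.card_center, 1, le_rfl, ?_⟩⟩,
      eq_inf_of_le hH ?_ (not_specialLinear_le_normalizer hn.two_le ?_ hR.pow_eq_one hx hd hdiag)⟩))))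
    · rw [hR.card_center]
      exact ⟨hp, hchar, hcard, hdiv, hmin⟩
    · rw [hR.card_eq]
    · exact le_normalizer_of hR.normalised
    · exact (hζ.neZero').out
  · -- a simple socle
    by_cases hsub : ∃ F₀ : Subfield F, F₀ ≠ ⊤ ∧ Cfsg.Geo.RealisableOver F₀ (Cfsg.Geo.matrixSet P)
    · obtain ⟨F₀, hF₀, B, hB⟩ := hsub
      obtain ⟨F₁, r, hr, hcard, hle⟩ := exists_prime_index F₀ hF₀
      exact Or.inr (Or.inr (Or.inr (Or.inl (mkSub F₁ r B hr hcard P hP.absIrred hP.normal
        fun s hs i j => hle (hB _ ⟨s, hs, rfl⟩ i j)))))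
    push Not at hsub
    by_cases hQ : ∃ Q : (ι → F) → F, Cfsg.Geo.IsNondegenerateQuadraticForm Q ∧
        Cfsg.Geo.FixesQuadForm (Cfsg.Geo.matrixSet P) Q
    · obtain ⟨Q, hQ, hfix⟩ := hQ
      have h2 := two_ne_zero_of_quad hodd hQ
      refine Or.inr (Or.inr (Or.inr (Or.inr (Or.inr (Or.inl ⟨?_, Q, hQ, eq_inf_of_le hH
        (le_quadSimilarityGroup hQ h2 hP.absIrred hP.normal hfix) fun hle => not_specialLinear_le_similarity hn3
          (IsSesq.of_bilinear hQ.polar_bilinear) hQ.nondegenerate (hle.trans (quadSimilarity_le _))⟩)))))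
      rw [Nat.odd_iff]
      exact FiniteField.odd_card_of_char_ne_two fun h => h2 (by
        haveI := ringChar.charP F
        rw [h] at this
        exact CharP.cast_eq_zero F 2)
    by_cases hU : ∃ (σ : F ≃+* F) (f : (ι → F) → (ι → F) → F), Cfsg.Geo.IsUnitaryForm σ f ∧
        Cfsg.Geo.FixesForm (Cfsg.Geo.matrixSet P) f
    · obtain ⟨σ, f, hf, hfix⟩ := hU
      exact Or.inr (Or.inr (Or.inr (Or.inr (Or.inr (Or.inr (Or.inl ⟨σ, f, hf, mkSim σ f hf
        (le_similarityGroup (IsSesq.of_unitary hf) hf.nondegenerate hP.absIrred hP.normal hfix)⟩))))))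
    exact Or.inr (Or.inr (Or.inr (Or.inr (Or.inr (Or.inr (Or.inr ⟨P,
      ⟨hP.le, hP.normal, hP.perfect, hP.simple, hP.nonabelian, hP.centralizer_scalar, hP.absIrred, hsub⟩,
      hQ, fun ⟨f, hf, _⟩ => not_symplectic_of_odd hodd hf, hU⟩))))))

end CfsgLib.Techniques.AschPrime
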