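/-
The maximal subgroup theorem for `Fin n`.
-/
import Cfsg.Agent.Lib.Techniques.AschPrime.SL

set_option autoImplicit false

namespace CfsgLib.Techniques.AschPrime

open Matrix
open scoped MatrixGroups

variable {F : Type*} [Field F] [Fintype F]

/-- The general statement in degree `n`, an odd prime. -/
theorem sl_max_fin {n : ℕ} (hn : n.Prime) (hodd : Odd n) {H : Subgroup (GL (Fin n) F)}
    (hH : Cfsg.Geo.IsMaximalIn (Cfsg.Geo.specialLinear (Fin n) F) H) :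
    (∃ W : Submodule F (Fin n → F), W ≠ ⊥ ∧ W ≠ ⊤ ∧
      H = Cfsg.Geo.subspaceStabilizer W ⊓ Cfsg.Geo.specialLinear (Fin n) F) ∨
    (5 ≤ Fintype.card F ∧ ∃ D : Fin n → Submodule F (Fin n → F), Cfsg.Geo.IsMDecomposition 1 D ∧
      H = Cfsg.Geo.decompositionStabilizer D ⊓ Cfsg.Geo.specialLinear (Fin n) F) ∨
    (∃ K : Subalgebra F (Matrix (Fin n) (Fin n) F), Cfsg.Geo.IsFieldSubalgebra n K ∧
      H = Cfsg.Geo.subalgebraNormalizer K ⊓ Cfsg.Geo.specialLinear (Fin n) F) ∨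
    (∃ (F₀ : Subfield F) (r : ℕ) (P : GL (Fin n) F), r.Prime ∧ Fintype.card F = Nat.card F₀ ^ r ∧
      H = Cfsg.Geo.subfieldSubgroup F₀ P ⊓ Cfsg.Geo.specialLinear (Fin n) F) ∨
    (∃ (p e : ℕ) (R : Subgroup (GL (Fin n) F)), p.Prime ∧ CharP F p ∧ Fintype.card F = p ^ e ∧ Odd e ∧
      e ∣ n - 1 ∧ n ≠ p ∧ n ∣ p ^ e - 1 ∧
      (∀ d : ℕ, 0 < d → d < e → ¬ n ∣ p ^ d - 1) ∧
      Cfsg.Geo.IsLinearSymplecticTypeData n R ∧
      H = Cfsg.Geo.subgroupNormalizer R ⊓ Cfsg.Geo.specialLinear (Fin n) F) ∨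
    (Odd (Fintype.card F) ∧ ∃ Q : (Fin n → F) → F, Cfsg.Geo.IsNondegenerateQuadraticForm Q ∧
      H = Cfsg.Geo.quadSimilarityGroup Q ⊓ Cfsg.Geo.specialLinear (Fin n) F) ∨
    (∃ (σ : F ≃+* F) (f : (Fin n → F) → (Fin n → F) → F), Cfsg.Geo.IsUnitaryForm σ f ∧
      H = Cfsg.Geo.similarityGroup f ⊓ Cfsg.Geo.specialLinear (Fin n) F) ∨
    Cfsg.Geo.InLinearResidualClass H := by
  have h := sl_max (ι := Fin n) (F := F) (H := H)
  rw [Fintype.card_fin] at h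
  exact h hn hodd hH

/-- The residue of the characteristic. -/
theorem residue_of_dvd {n p e : ℕ} (hn : n.Prime) (hdiv : n ∣ p ^ e - 1) (hp : p.Prime) : (p % n) ^ e % n = 1 := by
  rw [← Nat.pow_mod]
  obtain ⟨c, hc⟩ := hdiv
  have h1 : 1 ≤ p ^ e := Nat.one_le_pow _ _ hp.pos
  rw [show p ^ e = 1 + n * c by omega, Nat.add_mul_mod_self_left, Nat.one_mod_eq_one.mpr hn.ne_one]

end CfsgLib.Techniques.AschPrime
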