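/-
Over four elements the normaliser of a cubic field lies in a subfield group.
-/
import Cfsg.Agent.Lib.Techniques.AschPrime.SLFin

set_option autoImplicit false

namespace CfsgLib.Techniques.AschPrime

open Matrix
open scoped MatrixGroups

variable {F : Type*} [Field F] [Fintype F]

/-- A matrix that is a scalar multiple of a rational one lies in the subfield group. -/
theorem mem_subfieldSubgroup_of_eq_smul {ι : Type} [Fintype ι] [DecidableEq ι] {F₀ : Subfield F} {B g : GL ι F}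
    {c : F} (hc : c ≠ 0) {D : Matrix ι ι F} (hD : ∀ i j, D i j ∈ F₀)
    (h : ((B * g * B⁻¹ : GL ι F) : Matrix ι ι F) = c • D) : g ∈ Cfsg.Geo.subfieldSubgroup F₀ B⁻¹ := by
  let M : Matrix ι ι F₀ := fun i j => ⟨D i j, hD i j⟩
  have hM : M.map (F₀.subtype : F₀ →+* F) = D := rfl
  have hdet : IsUnit M.det := by
    rw [isUnit_iff_ne_zero]
    intro h0
    have h1 : D.det = 0 := by
      rw [← hM, ← RingHom.mapMatrix_apply, ← RingHom.map_det, h0, map_zero]
    have h2 : ((B * g * B⁻¹ : GL ι F) : Matrix ι ι F).det = 0 := by rw [h, det_smul, h1, mul_zero]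
    exact (Matrix.GeneralLinearGroup.det (B * g * B⁻¹)).ne_zero h2
  refine ⟨B * g * B⁻¹, ?_, by simp [mul_assoc]⟩
  suffices he : Matrix.GeneralLinearGroup.map (F₀.subtype : F₀ →+* F) (Matrix.GeneralLinearGroup.mk'' M hdet) *
      Units.map (Matrix.scalar ι : F →+* Matrix ι ι F).toMonoidHom (Units.mk0 c hc) = B * g * B⁻¹ by
    exact he ▸ Subgroup.mul_mem_sup ⟨_, rfl⟩ ⟨_, rfl⟩
  refine Units.ext ?_
  rw [h]
  have e : ((Matrix.GeneralLinearGroup.map (F₀.subtype : F₀ →+* F)
    (Matrix.GeneralLinearGroup.mk'' M hdet) : GL ι F) : Matrix ι ι F) = D := by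
    rw [← hM]; rfl
  rw [Units.val_mul, e]
  simp [← Matrix.smul_one_eq_diagonal]

/-- Over four elements the normaliser in the special linear group of a cubic field lies in a subfield group. -/
theorem field_four (hq : Fintype.card F = 4) {K : Subalgebra F (Matrix (Fin 3) (Fin 3) F)}
    (hK : Cfsg.Geo.IsFieldSubalgebra 3 K) :
    ∃ (F₀ : Subfield F) (B : GL (Fin 3) F), Fintype.card F = Nat.card F₀ ^ 2 ∧
      Cfsg.Geo.subalgebraNormalizer K ⊓ Cfsg.Geo.specialLinear (Fin 3) F ≤ Cfsg.Geo.subfieldSubgroup F₀ B := by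
  classical
  obtain ⟨p, hchar⟩ := CharP.exists F
  have hp : p.Prime := CharP.char_is_prime F p
  haveI : Fact p.Prime := ⟨hp⟩
  obtain ⟨e, -, he⟩ := FiniteField.card F p
  have hp2 : p = 2 := by
    have h4 : p ∣ 2 ^ 2 := by rw [show (2 : ℕ) ^ 2 = Fintype.card F by rw [hq]; rfl, he]; exact dvd_pow_self p e.ne_zero
    exact (Nat.prime_dvd_prime_iff_eq hp Nat.prime_two).mp (hp.dvd_of_dvd_pow h4)
  subst hp2
  obtain ⟨F₀, hF₀, hmem⟩ := exists_subfield_pow (k := 1) (e := 2) Nat.prime_two (by rw [hq]; norm_num) ⟨2, rfl⟩ one_ne_zero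
  -- the field as a commutative domain
  letI : CommRing K := { (inferInstance : Ring K) with mul_comm := fun a b => Subtype.ext (hK.comm _ a.2 _ b.2) }
  haveI : Nontrivial K := ⟨⟨0, 1, fun h => zero_ne_one (α := Matrix (Fin 3) (Fin 3) F) (congrArg Subtype.val h)⟩⟩
  haveI : NoZeroDivisors K := ⟨fun {a b} hab => by
    by_contra hcon
    rw [not_or] at hcon
    obtain ⟨y, hy, hay⟩ := hK.inv a a.2 fun h => hcon.1 (Subtype.ext h)
    apply hcon.2
    apply Subtype.ext
    have hab' : (a : Matrix (Fin 3) (Fin 3) F) * b = 0 := congrArg Subtype.val hab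
    have hya : y * (a : Matrix (Fin 3) (Fin 3) F) = 1 := by rw [← hK.comm _ a.2 y hy]; exact hay
    change (b : Matrix (Fin 3) (Fin 3) F) = 0
    rw [← one_mul (b : Matrix (Fin 3) (Fin 3) F), ← hya, mul_assoc, hab', mul_zero]⟩
  haveI : IsDomain K := NoZeroDivisors.to_isDomain _
  haveI : Finite (Matrix (Fin 3) (Fin 3) F) := Module.finite_of_finite F
  haveI : Finite K := Subtype.finite
  haveI : Fintype K := Fintype.ofFinite _
  have hKcard : Nat.card K = 64 := by
    rw [Module.natCard_eq_pow_finrank (K := F) (V := K), hK.finrank_eq, Nat.card_eq_fintype_card, hq]; norm_num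
  have hunits : Nat.card Kˣ = 63 := by
    letI := (Finite.isDomain_to_isField K).toField
    rw [Nat.card_units, hKcard]
  haveI : Fact (Nat.Prime 7) := ⟨by norm_num⟩
  obtain ⟨y, hy⟩ := exists_prime_orderOf_dvd_card' (G := Kˣ) 7 (by rw [hunits]; norm_num)
  have hy7 : ((y : K) : Matrix (Fin 3) (Fin 3) F) ^ 7 = 1 := by
    have := pow_orderOf_eq_one y
    rw [hy] at this
    exact congrArg (fun u : Kˣ => ((u : K) : Matrix (Fin 3) (Fin 3) F)) this
  have hprim : IsPrimitiveRoot (y : K) 7 := IsPrimitiveRoot.coe_units_iff.mpr (hy ▸ IsPrimitiveRoot.orderOf y)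
  set Y : Matrix (Fin 3) (Fin 3) F := ((y : K) : Matrix (Fin 3) (Fin 3) F) with hY
  -- the cubic equation
  have h2 : (2 : K) = 0 := by
    apply Subtype.ext
    change (2 : Matrix (Fin 3) (Fin 3) F) = 0
    have h : (2 : F) = 0 := CharP.cast_eq_zero F 2
    rw [show (2 : Matrix (Fin 3) (Fin 3) F) = (2 : F) • 1 by rw [Matrix.smul_one_eq_diagonal]; rfl, h, zero_smul]
  obtain ⟨a, b, hab, hcub⟩ : ∃ a b : Bool, a ≠ b ∧
      Y ^ 3 + (if a then Y ^ 2 else 0) + (if b then Y else 0) + 1 = 0 := by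
    have hne : (y : K) ≠ 1 := hprim.ne_one (by norm_num)
    have hprod : ((y : K) - 1) * (((y : K) ^ 3 + (y : K) + 1) * ((y : K) ^ 3 + (y : K) ^ 2 + 1)) = 0 := by
      have h7 : (y : K) ^ 7 = 1 := hprim.pow_eq_one
      linear_combination h7 + ((y : K) * ((y : K) ^ 3 - 1) * 0) * h2 + ((y : K) ^ 4 - (y : K) ^ 3) * h2
    rcases mul_eq_zero.mp hprod with h | h
    · exact absurd (sub_eq_zero.mp h) hne
    rcases mul_eq_zero.mp h with h | h
    · refine ⟨false, true, Bool.false_ne_true, ?_⟩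
      have := congrArg (fun u : K => (u : Matrix (Fin 3) (Fin 3) F)) h
      simpa [hY] using this
    · refine ⟨true, false, Bool.false_ne_true.symm, ?_⟩
      have := congrArg (fun u : K => (u : Matrix (Fin 3) (Fin 3) F)) h
      simpa [hY] using this
  -- a cyclic basis
  let P : Polynomial F := Polynomial.X ^ 3 + Polynomial.C (if a then 1 else 0) * Polynomial.X ^ 2 +
    Polynomial.C (if b then 1 else 0) * Polynomial.X + 1
  have hPdeg : P.natDegree = 3 := by simp only [P]; compute_degree!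
  have hPmonic : P.Monic := by simp only [P]; monicity!
  have hPirr : Irreducible P := by
    rw [Polynomial.irreducible_iff_roots_eq_zero_of_degree_le_three (by omega) (by omega), Multiset.eq_zero_iff_forall_notMem]
    intro x hx
    have hx0 : P.eval x = 0 := (Polynomial.mem_roots hPmonic.ne_zero).mp hx
    have hx4 : x ^ 4 = x := by
      have := FiniteField.pow_card x
      rwa [hq] at this
    have h2F : (2 : F) = 0 := CharP.cast_eq_zero F 2
    simp [P] at hx0
    cases a <;> cases b <;> simp at hab hx0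
    · have hsq : x ^ 2 = 0 := by linear_combination x * hx0 - hx4 - x * h2F
      rw [pow_eq_zero_iff two_ne_zero] at hsq
      simp [hsq] at hx0
    · have hsq : x ^ 3 = 0 := by linear_combination x * hx0 - hx4 - x * h2F
      rw [pow_eq_zero_iff three_ne_zero] at hsq
      simp [hsq] at hx0
  have haev : Polynomial.aeval Y P = 0 := by
    simp only [P, map_add, map_mul, map_pow, Polynomial.aeval_X, Polynomial.aeval_C, map_one]
    rw [← hcub]
    cases a <;> cases b <;> simp
  have hmin : minpoly F Y = P := (minpoly.eq_of_irreducible_of_monic hPirr haev hPmonic).symm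
  set v : Fin 3 → F := Pi.single 0 1 with hv
  have hv0 : v ≠ 0 := by simp [hv]
  have hYK : ∀ r : ℕ, Y ^ r ∈ K := fun r => K.pow_mem (y : K).2 r
  have hli : LinearIndependent F fun l : Fin 3 => (Y ^ (l : ℕ)) *ᵥ v := by
    rw [Fintype.linearIndependent_iff]
    intro c hc
    set S : Matrix (Fin 3) (Fin 3) F := ∑ l : Fin 3, c l • Y ^ (l : ℕ) with hS
    have hSK : S ∈ K := K.sum_mem fun l _ => K.smul_mem (hYK _) _
    have hSv : S *ᵥ v = 0 := by rw [hS, Matrix.sum_mulVec]; simpa [Matrix.smul_mulVec] using hc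
    have hS0 : S = 0 := by
      by_contra hne
      obtain ⟨z, hz, hSz⟩ := hK.inv S hSK hne
      apply hv0
      rw [hK.comm S hSK z hz] at hSz
      rw [← one_mulVec v, ← hSz, ← mulVec_mulVec, hSv, mulVec_zero]
    have hl : LinearIndependent F fun l : Fin (minpoly F Y).natDegree => Y ^ (l : ℕ) := linearIndependent_pow Y
    rw [hmin, hPdeg] at hl
    exact Fintype.linearIndependent_iff.mp hl c hS0
  let C : Matrix (Fin 3) (Fin 3) F := Matrix.of fun i l => ((Y ^ (l : ℕ)) *ᵥ v) i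
  have hCdet : IsUnit C.det := by
    rw [← Matrix.isUnit_iff_isUnit_det, ← Matrix.linearIndependent_cols_iff_isUnit]
    exact hli
  let B : GL (Fin 3) F := (Matrix.GeneralLinearGroup.mk'' C hCdet)⁻¹
  have hBC : (B⁻¹ : GL (Fin 3) F).val = C := by simp only [B, inv_inv]; rfl
  have hcol : ∀ l, C *ᵥ Pi.single l 1 = (Y ^ (l : ℕ)) *ᵥ v := fun l => by
    funext i
    simp [C]
  have hBcol : ∀ l : Fin 3, B.val *ᵥ ((Y ^ (l : ℕ)) *ᵥ v) = Pi.single l 1 := fun l => by
    rw [← hcol, ← hBC, mulVec_mulVec, Units.mul_inv, one_mulVec]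
  -- rationality
  have h01 : ∀ c : Bool, (if c then (1 : F) else 0) ∈ F₀ := fun c => by
    cases c
    · exact F₀.zero_mem
    · exact F₀.one_mem
  have hrat : ∀ m l, ∀ i, (B.val *ᵥ ((Y ^ m) *ᵥ ((Y ^ l) *ᵥ v))) i ∈ F₀ := by
    have hbase : ∀ m, ∀ i, (B.val *ᵥ ((Y ^ m) *ᵥ v)) i ∈ F₀ := by
      intro m
      induction m using Nat.strong_induction_on with
      | _ m ih =>
        intro i
        rcases lt_or_ge m 3 with hm | hm
        · have := hBcol ⟨m, hm⟩
          rw [this, Pi.single_apply]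
          split_ifs
          · exact F₀.one_mem
          · exact F₀.zero_mem
        obtain ⟨k, rfl⟩ : ∃ k, m = 3 + k := ⟨m - 3, by omega⟩
        have e : Y ^ (3 + k) = (-(if a then (1 : F) else 0)) • Y ^ (2 + k) + (-(if b then (1 : F) else 0)) • Y ^ (1 + k) +
            (-(1 : F)) • Y ^ k := by
          have h1 := congrArg (· * Y ^ k) hcub
          simp only [add_mul, zero_mul, ite_mul, one_mul, ← pow_add, ← pow_succ'] at h1
          cases a <;> cases b <;> simp at hab h1 ⊢ <;> (rw [← sub_eq_zero, ← h1]; abel)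
        rw [e]
        simp only [add_mulVec, Matrix.smul_mulVec, mulVec_add, mulVec_smul, Pi.add_apply, Pi.smul_apply, smul_eq_mul]
        exact F₀.add_mem (F₀.add_mem (F₀.mul_mem (F₀.neg_mem (h01 a)) (ih _ (by omega) i))
          (F₀.mul_mem (F₀.neg_mem (h01 b)) (ih _ (by omega) i))) (F₀.mul_mem (F₀.neg_mem F₀.one_mem) (ih _ (by omega) i))
    intro m l
    rw [mulVec_mulVec v (Y ^ m) (Y ^ l), ← pow_add]
    exact hbase _
  refine ⟨F₀, B⁻¹, by rw [hF₀, hq]; norm_num, ?_⟩
  rintro g ⟨hgN, hgdet⟩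
  -- conjugation is a power map on the cyclic group
  have hgy : (g : Matrix (Fin 3) (Fin 3) F) * Y * (g⁻¹ : GL (Fin 3) F).val ∈ K := (hgN Y).mp (y : K).2
  obtain ⟨j, -, hj⟩ : ∃ j < 7, (y : K) ^ j = ⟨_, hgy⟩ := hprim.eq_pow_of_pow_eq_one (Subtype.ext (by
    rw [SubmonoidClass.coe_pow]
    change ((g : Matrix (Fin 3) (Fin 3) F) * Y * (g⁻¹ : GL (Fin 3) F).val) ^ 7 = 1
    rw [Units.conj_pow, hy7, mul_one, Units.mul_inv]))
  have hj' : (g : Matrix (Fin 3) (Fin 3) F) * Y * (g⁻¹ : GL (Fin 3) F).val = Y ^ j := by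
    have := congrArg Subtype.val hj.symm
    simpa [hY] using this
  -- the image of `v`
  have hspan : ⊤ ≤ Submodule.span F (Set.range fun l : Fin 3 => (Y ^ (l : ℕ)) *ᵥ v) :=
    (hli.span_eq_top_of_card_eq_finrank (by simp)).ge
  obtain ⟨r, hr⟩ := (Submodule.mem_span_range_iff_exists_fun F).mp (hspan (Submodule.mem_top (x := g.val *ᵥ v)))
  set k : Matrix (Fin 3) (Fin 3) F := ∑ l : Fin 3, r l • Y ^ (l : ℕ) with hk
  have hkK : k ∈ K := K.sum_mem fun l _ => K.smul_mem (hYK _) _
  have hkv : k *ᵥ v = g.val *ᵥ v := by rw [hk, Matrix.sum_mulVec]; simpa [Matrix.smul_mulVec] using hr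
  have hk0 : k ≠ 0 := fun h0 => CfsgLib.Transvec.mulVec_ne_zero g hv0 (by rw [← hkv, h0, zero_mulVec])
  -- the twisted map fixing `v`
  let M : Matrix (Fin 3) (Fin 3) F := Matrix.of fun i l => (B.val *ᵥ ((Y ^ (j * (l : ℕ))) *ᵥ v)) i
  have hgcol : ∀ l : ℕ, g.val *ᵥ ((Y ^ l) *ᵥ v) = k *ᵥ ((Y ^ (j * l)) *ᵥ v) := by
    intro l
    have e1 : g.val * Y ^ l = Y ^ (j * l) * g.val := by
      have : (g.val * Y * (g⁻¹ : GL (Fin 3) F).val) ^ l = (Y ^ j) ^ l := by rw [hj']
      rw [Units.conj_pow, ← pow_mul] at this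
      rw [← this, mul_assoc, Units.inv_mul, mul_one]
    rw [mulVec_mulVec, e1, ← mulVec_mulVec, ← hkv, mulVec_mulVec, mulVec_mulVec,
      hK.comm _ (hYK _) _ hkK]
  have hMrat : ∀ i l, M i l ∈ F₀ := fun i l => by
    have := hrat 0 (j * (l : ℕ)) i
    simpa [M] using this
  have hgB : B.val * g.val * (B⁻¹ : GL (Fin 3) F).val = B.val * k * (B⁻¹ : GL (Fin 3) F).val * M := by
    refine Matrix.ext_of_mulVec_single fun l => ?_
    have eM : M *ᵥ Pi.single l 1 = B.val *ᵥ ((Y ^ (j * (l : ℕ))) *ᵥ v) := by funext i; simp [M]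
    rw [← mulVec_mulVec, ← mulVec_mulVec, hBC, hcol, hgcol, ← mulVec_mulVec, eM, ← hBC, ← mulVec_mulVec,
      ← mulVec_mulVec, CfsgLib.Transvec.inv_mulVec_cancel]
  -- the determinant of the multiplier is one
  have hMdet : M.det = 1 := by
    let M' : Matrix (Fin 3) (Fin 3) F₀ := fun i l => ⟨M i l, hMrat i l⟩
    have hM' : M = M'.map (F₀.subtype : F₀ →+* F) := rfl
    have hne : M.det ≠ 0 := fun h0 => by
      have h1 := congrArg Matrix.det hgB
      rw [det_mul _ M, h0, mul_zero, det_mul, det_mul] at h1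
      simp [← Matrix.GeneralLinearGroup.val_det_apply] at h1
    haveI : Fintype F₀ := Fintype.ofFinite _
    have h1 := FiniteField.pow_card_sub_one_eq_one M'.det (fun h0 => hne (by
      rw [hM', ← RingHom.mapMatrix_apply, ← RingHom.map_det, h0, map_zero]))
    rw [← Nat.card_eq_fintype_card, hF₀, pow_one, show (2 - 1 : ℕ) = 1 from rfl, pow_one] at h1
    rw [hM', ← RingHom.mapMatrix_apply, ← RingHom.map_det, h1, map_one]
  have hkdet : k.det = 1 := by
    have h1 := congrArg Matrix.det hgB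
    rw [det_mul _ M, hMdet, mul_one, det_mul, det_mul, det_mul, det_mul] at h1
    have hg1 : g.val.det = 1 := (CfsgLib.Transvec.mem_specialLinear_iff g).mp hgdet
    have hB1 : B.val.det * (B⁻¹ : GL (Fin 3) F).val.det = 1 := by rw [← det_mul, Units.mul_inv, det_one]
    rw [hg1, mul_one, hB1, mul_comm B.val.det, mul_assoc, hB1, mul_one] at h1
    exact h1.symm
  -- the multiplier is a power of `y` times a scalar
  set k' : K := ⟨k, hkK⟩ with hk'
  have hk'0 : k' ≠ 0 := fun h => hk0 (congrArg Subtype.val h)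
  have h63 : k' ^ 63 = 1 := by
    letI := (Finite.isDomain_to_isField K).toField
    have := FiniteField.pow_card_sub_one_eq_one k' hk'0
    rwa [← Nat.card_eq_fintype_card, hKcard] at this
  have hscal : ∀ z : K, z ^ 3 = 1 → ∃ c : F, (z : Matrix (Fin 3) (Fin 3) F) = c • 1 := by
    obtain ⟨ω, hω⟩ : ∃ ω : Fˣ, orderOf ω = 3 := by
      haveI : Fact (Nat.Prime 3) := ⟨by norm_num⟩
      exact exists_prime_orderOf_dvd_card' 3 (by rw [Nat.card_units, Nat.card_eq_fintype_card, hq])
    have hωp : IsPrimitiveRoot (algebraMap F K (ω : F)) 3 :=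
      (IsPrimitiveRoot.coe_units_iff.mpr (hω ▸ IsPrimitiveRoot.orderOf ω)).map_of_injective
        (FaithfulSMul.algebraMap_injective F K)
    intro z hz
    obtain ⟨i, -, hi⟩ := hωp.eq_pow_of_pow_eq_one hz
    refine ⟨(ω : F) ^ i, ?_⟩
    rw [← hi, ← map_pow]
    exact Algebra.algebraMap_eq_smul_one _
  obtain ⟨c₁, hc₁⟩ := hscal (k' ^ 21) (by rw [← pow_mul]; exact h63)
  have hdet7 : ((k' ^ 7 : K) : Matrix (Fin 3) (Fin 3) F).det = 1 := by
    rw [SubmonoidClass.coe_pow, det_pow, hk', hkdet, one_pow]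
  obtain ⟨d, hd⟩ := exists_root_of_pow_eq_scalar (ι := Fin 3) (by norm_num) (by decide) hdet7 (c := c₁) (by
    rw [Fintype.card_fin, ← SubmonoidClass.coe_pow, ← pow_mul]; exact hc₁)
  have h21 : k' ^ 21 = 1 := by
    apply Subtype.ext
    rw [hc₁]
    have hd0 : d ≠ 0 := fun h0 => by
      rw [Fintype.card_fin, h0, zero_pow three_ne_zero] at hd
      rw [← hd, zero_smul] at hc₁
      exact pow_ne_zero 21 hk'0 (Subtype.ext hc₁)
    have := FiniteField.pow_card_sub_one_eq_one d hd0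
    rw [hq] at this
    rw [← hd, Fintype.card_fin, this, one_smul]
    rfl
  obtain ⟨i, -, hi⟩ := hprim.eq_pow_of_pow_eq_one (show (k' ^ 3) ^ 7 = 1 by rw [← pow_mul]; exact h21)
  obtain ⟨c₂, hc₂⟩ := hscal (k' ^ 7) (by rw [← pow_mul]; exact h21)
  have hkform : k = c₂ • Y ^ (5 * i) := by
    have e : k' = k' ^ 7 * (k' ^ 3) ^ 5 := by
      rw [← pow_mul, ← pow_add, show 7 + 3 * 5 = 21 + 1 from rfl, pow_succ, h21, one_mul]
    rw [← hi, ← pow_mul, mul_comm i 5] at e
    have := congrArg Subtype.val e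
    rw [MulMemClass.coe_mul, hc₂, SubmonoidClass.coe_pow, Matrix.smul_mul, Matrix.one_mul] at this
    exact this
  have hc₂0 : c₂ ≠ 0 := fun h0 => hk0 (by rw [hkform, h0, zero_smul])
  refine mem_subfieldSubgroup_of_eq_smul hc₂0
    (D := B.val * Y ^ (5 * i) * (B⁻¹ : GL (Fin 3) F).val * M) (fun i' l => ?_) ?_
  · rw [Matrix.mul_apply]
    refine F₀.sum_mem fun t _ => F₀.mul_mem ?_ (hMrat t l)
    have := hrat (5 * i) (t : ℕ) i'
    rw [← hcol, ← hBC] at this
    simp only [mulVec_mulVec] at this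
    simpa [← mul_assoc] using this
  · rw [Units.val_mul, Units.val_mul, hgB, hkform]
    simp [Matrix.mul_smul, Matrix.smul_mul]

end CfsgLib.Techniques.AschPrime
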